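import Cfsg.Statements.S0457
import Cfsg.Agent.Lib.Spor.J1M.Main
import Cfsg.Agent.Lib.Spor.Gen2

set_option autoImplicit false
open Cfsg

namespace Cfsg.Agent.S0457

open Cfsg.Agent.PG Cfsg.Agent.Spor Cfsg.Agent.Spor.J1M

theorem gen : Subgroup.closure {γ 0, γ 1} = KG γ 9 := by
  apply le_antisymm
  · rw [Subgroup.closure_le]
    have := mem_of_genRun (Q := KG γ 9) (a := 9) (b := 14) (c := 0) (d := 2)
      (fun j h _ => mem_KG γ h) (by decide +kernel) gc2
    rintro _ (rfl | rfl)
    · exact this 0 (by norm_num) (by norm_num)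
    · exact this 1 (by norm_num) (by norm_num)
  · refine KG_le_of_lt (n := 14) (fun j hj => γ_of_le (lenL ▸ hj))
      (mem_of_genRun (a := 0) (b := 2) (fun j _ h => ?_) (by decide +kernel) gc1)
    interval_cases j
    · exact Subgroup.subset_closure (Or.inl rfl)
    · exact Subgroup.subset_closure (Or.inr rfl)

/-- The subgroup of GL(7, 11) generated by the two explicit Janko matrices is simple of order 175560. -/
theorem result : ∃ x y : GL (Fin 7) (ZMod 11), (x : Matrix (Fin 7) (Fin 7) (ZMod 11)) = Cfsg.jankoMatrixX ∧ (y : Matrix (Fin 7) (Fin 7) (ZMod 11)) = Cfsg.jankoMatrixY ∧ Cfsg.IsJ1 (Subgroup.closure ({x, y} : Set (GL (Fin 7) (ZMod 11)))) := by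
  obtain ⟨φ, hφ⟩ := lift0
  have := J1.simple0
  obtain ⟨e⟩ := iso_of_lift hφ (inj_of_lift hφ le_rfl (by norm_num) (ne _ List.mem_cons_self))
  refine ⟨γ 0, γ 1, (gam_val good 0).trans ?_, (gam_val good 1).trans ?_, ?_⟩
  · unfold mat
    rw [if_neg (by decide)]
    decide +kernel
  · unfold mat
    rw [if_neg (by decide)]
    decide +kernel
  · have h := simple_card_congr e ⟨this, J1.card0⟩
    rw [← gen] at h
    exact h

end Cfsg.Agent.S0457
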