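import Cfsg.Statements.S1601
import Cfsg.Agent.Lib.Golay.Small
import Cfsg.Agent.Lib.Golay.H1601.Main

set_option autoImplicit false
open scoped Pointwise
open Cfsg

set_option maxRecDepth 100000

namespace Cfsg.Agent.S1601

open Cfsg.Agent.PG Cfsg.Agent.Golay Cfsg.Agent.Golay.H1601 MulAction

theorem hm : m24OK A = true := by decide +kernel

theorem hf : FixTriv (K A 0) I24 :=
  fixTriv_of_lb hA (l := 4) (lv := [(2, [[0x204]], 11, 11),
  (3, [[0x2060006], [0x204000602]], 4, 10),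
  (4, [[0x206020400060206], [0x200040004040204]], 3, 6)]) (by decide +kernel) (by rw [card0]; decide)
    (by simp only [I24, Set.mem_ofPred_eq]; decide)

/-- vectors up to sign -/
def Xw (i : ℕ) : Fin 2 → ZMod 11 := [![0, 1], ![0, 2], ![0, 3], ![0, 4], ![0, 5], ![1, 0], ![1, 1], ![1, 2], ![1, 3], ![1, 4], ![1, 5], ![1, 6], ![1, 7], ![1, 8], ![1, 9], ![1, 10], ![2, 0], ![2, 1], ![2, 2], ![2, 3], ![2, 4], ![2, 5], ![2, 6], ![2, 7], ![2, 8], ![2, 9], ![2, 10], ![3, 0], ![3, 1], ![3, 2], ![3, 3], ![3, 4], ![3, 5], ![3, 6], ![3, 7], ![3, 8], ![3, 9], ![3, 10], ![4, 0], ![4, 1], ![4, 2], ![4, 3], ![4, 4], ![4, 5], ![4, 6], ![4, 7], ![4, 8], ![4, 9], ![4, 10], ![5, 0], ![5, 1], ![5, 2], ![5, 3], ![5, 4], ![5, 5], ![5, 6], ![5, 7], ![5, 8], ![5, 9], ![5, 10]].getD i 0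
/-- pairs -/
def Xv (i : ℕ) : Finset (Fin 2 → ZMod 11) := {Xw i, -Xw i}

theorem acts : ∀ σ ∈ K A 0, ∃ g : Matrix.SpecialLinearGroup (Fin 2) (ZMod 11), Acts (fun i => Xv (i - 24)) (bset (ivl 24 (24 + 60))) g σ := by
  refine acts_K_of_gens fun j h1 hj => ?_
  have : j < 2 := hj
  interval_cases j
  · exact ⟨⟨!![8, 10; 7, 2], by decide⟩, acts_of_imgs hA (imgs := [14, 23, 32, 41, 50, 31, 40, 49, 51, 42, 33, 24, 15, 0, 13, 22, 52, 43, 34, 25, 5, 1, 12, 21, 30, 39, 59, 26, 6, 2, 11, 20, 29, 38, 58, 53, 44, 35, 10, 19, 28, 48, 57, 54, 45, 36, 16, 7, 3, 47, 56, 55, 46, 37, 17, 8, 4, 9, 18, 27]) (by decide +kernel) (by decide +kernel)⟩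
  · exact ⟨⟨!![10, 0; 7, 10], by decide⟩, acts_of_imgs hA (imgs := [0, 1, 2, 3, 4, 9, 10, 11, 12, 13, 14, 15, 5, 6, 7, 8, 24, 25, 26, 16, 17, 18, 19, 20, 21, 22, 23, 28, 29, 30, 31, 32, 33, 34, 35, 36, 37, 27, 43, 44, 45, 46, 47, 48, 38, 39, 40, 41, 42, 58, 59, 49, 50, 51, 52, 53, 54, 55, 56, 57]) (by decide +kernel) (by decide +kernel)⟩

theorem cardSL : Nat.card (Matrix.SpecialLinearGroup (Fin 2) (ZMod 11)) = 1320 := by
  have : Fact (Nat.Prime 11) := ⟨by norm_num⟩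
  have h : Nat.card (Matrix.SpecialLinearGroup (Fin 2) (ZMod 11)) * (Nat.card (ZMod 11) - 1) = _ :=
    card_SL_mul 2 (ZMod 11)
  rw [Matrix.card_GL_field] at h
  simp only [Fin.prod_univ_succ, Nat.card_zmod, ZMod.card, Fin.prod_univ_zero] at h
  have h2 : Nat.card (Matrix.SpecialLinearGroup (Fin 2) (ZMod 11)) * 10 = 13200 := h
  omega

theorem hZ (z : Matrix.SpecialLinearGroup (Fin 2) (ZMod 11)) (hz : z ∈ Subgroup.center _) (i : ℕ) :
    z • Xv i = Xv i := by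
  obtain ⟨r, h1, h2⟩ := Matrix.SpecialLinearGroup.mem_center_iff.1 hz
  have h3 : ∀ r : ZMod 11, r ^ (Fintype.card (Fin 2)) = 1 → r = 1 ∨ r = -1 := by decide
  have h4 : ∀ v : Fin 2 → ZMod 11, z • v = r • v := fun v => by
    rw [Matrix.SpecialLinearGroup.smul_def, ← h2]
    ext j; simp [Matrix.mulVec_diagonal]
  rw [Xv, Finset.smul_finset_insert, Finset.smul_finset_singleton, h4, h4]
  rcases h3 r h1 with rfl | rfl
  · simp
  · simp [Finset.pair_comm]

theorem cardZ : 2 ≤ Nat.card (Subgroup.center (Matrix.SpecialLinearGroup (Fin 2) (ZMod 11))) := by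
  apply Finite.one_lt_card_iff_nontrivial.2
  refine ⟨1, ⟨⟨!![10, 0; 0, 10], by decide⟩, Matrix.SpecialLinearGroup.mem_center_iff.2
    ⟨10, by decide, by decide⟩⟩, fun e => ?_⟩
  have := congrArg (fun x => x.1.1 0 0) e
  revert this; decide


/-- In the 3-transitive action of the smallest Mathieu group on the complementary dodecad, a point stabiliser is isomorphic to PSL(2, 11). -/
theorem result (d : Finset Cfsg.GolayPt) (hd : d ∈ Cfsg.dodecads) (p q : Cfsg.GolayPt) (hp : p ∈ d) (hq : q ∉ d) : Nonempty (↥(MulAction.stabilizer Cfsg.M24 d ⊓ MulAction.stabilizer Cfsg.M24 p ⊓ MulAction.stabilizer Cfsg.M24 q) ≃* Matrix.ProjectiveSpecialLinearGroup (Fin 2) (ZMod 11)) := by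
  obtain ⟨k, hk, rfl, rfl, rfl⟩ := SB.std_dod_in_out hd hp hq
  rw [SB.X_dod0]
  obtain ⟨e, _⟩ := exists_iso_Kt hA hm (t := 0) (H := stabilizer M24 (ofMask 0x6fdd) ⊓
    stabilizer M24 (pt 0) ⊓ stabilizer M24 (pt 1))
    (fun _ hσ => ⟨⟨fix_mask hA hm (m := 0x6fdd) (by decide +kernel) hσ, fix_point hA hm (p := 0) (by omega) (by decide +kernel) hσ⟩, fix_point hA hm (p := 1) (by omega) (by decide +kernel) hσ⟩) hf (by
      rw [card_stab_dod_in_out SB.dodecad0 (by decide) (by decide), card0])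
  obtain ⟨e2⟩ := iso_quot_of_acts acts (injOn_shift (by decide +kernel))
    (by apply fixTriv0 <;> exact mem_bset_ivl.2 (by omega)) (fun z hz i _ => hZ z hz _)
    (by rw [card0, cardSL]; have := cardZ; omega)
  exact ⟨((conjEquiv (G := M24) ⟨k, hk⟩ (fun g => by simp only [Subgroup.mem_inf]; exact and_congr (and_congr (conj_mem_stab _ g _) (conj_mem_stab _ g _)) (conj_mem_stab _ g _))).symm.trans e.symm).trans e2.symm⟩

end Cfsg.Agent.S1601
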