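import Cfsg.Statements.S1628
import Cfsg.Agent.Lib.Spor.RuL.Shape

set_option autoImplicit false
open Cfsg

namespace Cfsg.Agent.S1628

/-- The Conway–Wales lattice as stored is even with no vectors of true norm 2: stored norms are multiples of 8, never equal to 8, and the minimum over nonzero vectors is 16. -/
theorem result : (∀ x ∈ Cfsg.Spor.ruLattice, (8 : ℤ) ∣ Cfsg.Spor.ruNorm x) ∧ (∀ x ∈ Cfsg.Spor.ruLattice, Cfsg.Spor.ruNorm x ≠ 8) ∧ (∀ x ∈ Cfsg.Spor.ruLattice, x ≠ 0 → 16 ≤ Cfsg.Spor.ruNorm x) ∧ ∃ x ∈ Cfsg.Spor.ruLattice, Cfsg.Spor.ruNorm x = 16 := by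
  open Cfsg.Agent.Spor.RuLat in
  refine ⟨fun x hx => norm_MM (L_le_MM hx), fun x hx h => ?_,
    fun x hx h => norm_ge (L_le_MM hx) h, fr 0, fr_mem (by omega), norm_fr (by omega)⟩
  by_cases h0 : x = 0
  · rw [h0, Cfsg.Agent.Spor.RuLat.norm_zero'] at h; omega
  · have := Cfsg.Agent.Spor.RuLat.norm_ge (Cfsg.Agent.Spor.RuLat.L_le_MM hx) h0; omega

end Cfsg.Agent.S1628
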