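import Cfsg.Statements.S1910
import Cfsg.Agent.Lib.Core.Coprime
-- import your own Cfsg.Agent.* helpers here

set_option autoImplicit false
open Cfsg

namespace Cfsg.Agent.S1910

open Cfsg.Agent.Lib.Core Subgroup
open scoped Pointwise commutatorElement

theorem embed {G : Type*} [Group G] [Finite G] {p : ℕ} [Fact p.Prime] {T U W : Subgroup G}
    (hT : IsPGroup p T) (hW : IsPGroup p W) (hTW : T ≤ normalizer (W : Set G)) (hinf : T ⊓ W = ⊥)
    (hU : U < W) (hUT : U ≤ centralizer (T : Set G))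
    (hC : ∀ t ∈ T, t ≠ 1 → W ⊓ centralizer {t} ≤ U) :
    ∃ f : T →* U, Function.Injective f := by
  have hTU : T ≤ normalizer (U : Set G) :=
    le_normalizer_of_le_centralizer (le_centralizer_iff.mp hUT)
  have hded : (U ⊔ T) ⊓ W = U := by
    rw [sup_inf_of_le_normalizer_left hU.le hTU, hinf, sup_bot_eq]
  have hlt : U ⊔ T < T ⊔ W := by
    refine lt_of_le_not_ge (sup_le (le_sup_of_le_right hU.le) le_sup_left) fun h => hU.not_ge ?_
    rw [← hded]
    exact le_inf (le_sup_right.trans h) le_rfl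
  obtain ⟨x, ⟨hx, hxn⟩, hxU⟩ := SetLike.exists_of_lt
    (lt_inf_normalizer_of_isPGroup (isPGroup_sup_of_le_normalizer hT hW hTW) hlt)
  obtain ⟨t₀, ht₀, w, hw, rfl⟩ := (mem_sup_of_le_normalizer_right hTW).mp hx
  have hwn : w ∈ normalizer ((U ⊔ T : Subgroup G) : Set G) := by
    have := mul_mem (inv_mem (le_normalizer (mem_sup_right ht₀ : t₀ ∈ U ⊔ T))) hxn
    simpa using this
  have hwU : w ∉ U := fun h => hxU (mul_mem (mem_sup_right ht₀) (mem_sup_left h))
  have hmem : ∀ t ∈ T, w * t * w⁻¹ * t⁻¹ ∈ U := by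
    intro t ht
    rw [← hded]
    refine mem_inf.mpr ⟨mul_mem (conj_mem_of_mem_normalizer hwn (mem_sup_right ht))
      (inv_mem (mem_sup_right ht)), ?_⟩
    have := mul_mem hw (conj_mem_of_mem_normalizer (hTW ht) (inv_mem hw))
    simpa [mul_assoc] using this
  refine ⟨MonoidHom.mk' (fun t => ⟨w * t * w⁻¹ * (t : G)⁻¹, hmem t t.2⟩) fun s t => ?_, ?_⟩
  · apply Subtype.ext
    have := hUT (hmem t t.2) s s.2
    change w * (s * t) * w⁻¹ * (s * t : G)⁻¹ = w * s * w⁻¹ * (s : G)⁻¹ * (w * t * w⁻¹ * (t : G)⁻¹)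
    calc w * (s * t) * w⁻¹ * (s * t : G)⁻¹
        = w * s * w⁻¹ * (s : G)⁻¹ * (s * (w * t * w⁻¹ * (t : G)⁻¹)) * (s : G)⁻¹ := by group
      _ = _ := by rw [this]; group
  · rw [injective_iff_map_eq_one]
    intro t ht
    by_contra h1
    refine hwU (hC t t.2 (fun h => h1 (Subtype.ext h)) ⟨hw, mem_centralizer_singleton_iff.mpr ?_⟩)
    have : w * t * w⁻¹ * (t : G)⁻¹ = 1 := congrArg Subtype.val ht
    rwa [mul_inv_eq_one, mul_inv_eq_iff_eq_mul] at this

theorem tight {G : Type*} [Group G] [Finite G] {Q : Subgroup G} (hQ : Cfsg.IsTightlyEmbedded Q)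
    (g : G) {t x : G} (ht : t ∈ Q.map (MulAut.conj g).toMonoidHom) (ht1 : t ≠ 1)
    (ht2 : IsPGroup 2 (zpowers t)) (hx : x * t * x⁻¹ ∈ Q.map (MulAut.conj g).toMonoidHom) :
    x ∈ normalizer (Q.map (MulAut.conj g).toMonoidHom : Set G) := by
  haveI : Fact (Nat.Prime 2) := ⟨Nat.prime_two⟩
  rw [← map_conj_normalizer, mem_map_conj]
  by_contra h
  have h1 := hQ.2 _ (fun h' => h (inv_mem_iff.mp h'))
  rw [mem_map_conj] at ht hx
  have h2 : (zpowers t).map (MulAut.conj g⁻¹).toMonoidHom ≤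
      Q ⊓ Q.map (MulAut.conj (g⁻¹ * x * g)⁻¹).toMonoidHom := by
    rw [MonoidHom.map_zpowers, zpowers_le]
    refine ⟨by simpa using ht, mem_map_conj.mpr ?_⟩
    simpa [mul_assoc] using hx
  refine h1.not_two_dvd_nat (dvd_trans ?_ (card_dvd_of_le h2))
  rw [card_map_conj]
  exact dvd_card_of_isPGroup_of_ne_bot ht2 (by simpa using ht1)

/-- Let Q be a tightly embedded subgroup of a finite group G, g an element outside N_G(Q), T a nontrivial Sylow 2-subgroup of Q^g ∩ N_G(Q), and S a Sylow 2-subgroup of QT containing T. Then T ∩ Q = 1, and N_S(T) is the direct product of T and N_S(T) ∩ Q, with N_S(T) ∩ Q isomorphic to T. -/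
theorem result {G : Type*} [Group G] [Finite G] (Q : Subgroup G) (hQ : Cfsg.IsTightlyEmbedded Q)
    (g : G) (hg : g ∉ Subgroup.normalizer (Q : Set G))
    (T : Subgroup G) (hT1 : T ≠ ⊥) (hT : T ≤ Q.map (MulAut.conj g).toMonoidHom ⊓ Subgroup.normalizer (Q : Set G))
    (hTsyl : IsPGroup 2 T ∧ ¬ 2 ∣ T.relIndex (Q.map (MulAut.conj g).toMonoidHom ⊓ Subgroup.normalizer (Q : Set G)))
    (S : Subgroup G) (hTS : T ≤ S) (hS : S ≤ Q ⊔ T) (hSsyl : IsPGroup 2 S ∧ ¬ 2 ∣ S.relIndex (Q ⊔ T)) :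
    T ⊓ Q = ⊥ ∧
      T ⊓ (S ⊓ Subgroup.normalizer (T : Set G) ⊓ Q) = ⊥ ∧
      ⁅T, S ⊓ Subgroup.normalizer (T : Set G) ⊓ Q⁆ = ⊥ ∧
      T ⊔ (S ⊓ Subgroup.normalizer (T : Set G) ⊓ Q) = S ⊓ Subgroup.normalizer (T : Set G) ∧
      Nonempty (↥(S ⊓ Subgroup.normalizer (T : Set G) ⊓ Q) ≃* T) := by
  haveI : Fact (Nat.Prime 2) := ⟨Nat.prime_two⟩
  set Q' := Q.map (MulAut.conj g).toMonoidHom with hQ'
  have hTs : IsSyl 2 T (Q' ⊓ normalizer (Q : Set G)) := ⟨hT, hTsyl.1, hTsyl.2⟩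
  have hSs : IsSyl 2 S (Q ⊔ T) := ⟨hS, hSsyl.1, hSsyl.2⟩
  have hTQ' : T ≤ Q' := hT.trans inf_le_left
  have hTN : T ≤ normalizer (Q : Set G) := hT.trans inf_le_right
  have hbot : ∀ X : Subgroup G, IsPGroup 2 X → X ≤ Q → X ≤ Q' → X = ⊥ := fun X hX h1 h2 =>
    eq_bot_of_isPGroup_of_not_dvd hX
      (not_dvd_card_of_le (hQ.2 g hg).not_two_dvd_nat (le_inf h1 h2))
  have hTQ : T ⊓ Q = ⊥ := hbot _ (hTs.isPGroup.to_le inf_le_left) inf_le_right
    (inf_le_left.trans hTQ')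
  have tightQ : ∀ {t x : G}, t ∈ Q → t ≠ 1 → IsPGroup 2 (zpowers t) → x * t * x⁻¹ ∈ Q →
      x ∈ normalizer (Q : Set G) := fun {t x} h1 h2 h3 h4 => by
    have := tight hQ 1 (t := t) (x := x) (by rwa [map_conj_one]) h2 h3 (by rwa [map_conj_one])
    rwa [map_conj_one] at this
  set W := S ⊓ Q with hW
  have hWs : IsSyl 2 W Q := hSs.inf_normal le_sup_left (sup_le le_normalizer hTN)
  have hTW : T ≤ normalizer (W : Set G) := le_normalizer_inf (le_normalizer_of_le hTS) hTN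
  set U := S ⊓ normalizer (T : Set G) ⊓ Q with hU
  have hUW : U ≤ W := inf_le_inf_right _ inf_le_left
  have hUT : U ≤ normalizer (T : Set G) := inf_le_left.trans inf_le_right
  have hcomm : ⁅T, U⁆ = ⊥ := by
    rw [eq_bot_iff, ← hTQ]
    exact le_inf (commutator_le_of_le_normalizer_left hUT)
      ((commutator_mono le_rfl inf_le_right).trans (commutator_le_of_le_normalizer_right hTN))
  have hTU : T ≤ centralizer (U : Set G) := commutator_eq_bot_iff_le_centralizer.mp hcomm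
  refine ⟨hTQ, eq_bot_iff.mpr (hTQ ▸ inf_le_inf_left _ inf_le_right), hcomm, ?_, ?_⟩
  · have := sup_inf_of_le_normalizer_right (C := S ⊓ normalizer (T : Set G))
      (le_inf hTS le_normalizer) hTN
    rw [hU, inf_comm _ Q, ← this, inf_eq_right, sup_comm]
    exact inf_le_left.trans hS
  have hV : W ⊓ normalizer (Q' : Set G) ≤ U := by
    refine le_inf (le_inf (inf_le_left.trans inf_le_left) (le_normalizer_of_le_centralizer ?_))
      (inf_le_left.trans inf_le_right)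
    rw [← commutator_eq_bot_iff_le_centralizer]
    have h1 : ⁅W ⊓ normalizer (Q' : Set G), T⁆ ≤ W :=
      (commutator_mono inf_le_left le_rfl).trans (commutator_le_of_le_normalizer_left hTW)
    refine hbot _ (hWs.isPGroup.to_le h1) (h1.trans inf_le_right) ?_
    exact (commutator_mono le_rfl hTQ').trans (commutator_le_of_le_normalizer_right inf_le_right)
  have hC1 : ∀ t ∈ T, t ≠ 1 → W ⊓ centralizer {t} ≤ U := by
    intro t ht ht1 x hx
    refine hV ⟨hx.1, tight hQ g (hTQ' ht) ht1 (isPGroup_zpowers_of_mem hTs.isPGroup ht) ?_⟩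
    rw [mem_centralizer_singleton_iff.mp hx.2, mul_inv_cancel_right]
    exact hTQ' ht
  have hUQ' : U ≤ normalizer (Q' : Set G) := by
    intro x hx
    obtain ⟨⟨t, ht⟩, ht1⟩ := ne_bot_iff_exists_ne_one.mp hT1
    exact tight hQ g (hTQ' ht) (fun h => ht1 (Subtype.ext h))
      (isPGroup_zpowers_of_mem hTs.isPGroup ht) (hTQ' (conj_mem_of_mem_normalizer (hUT hx) ht))
  have hUp : IsPGroup 2 U := hWs.isPGroup.to_le hUW
  obtain ⟨P, hP, hPle⟩ := exists_isSyl_ge (H := U ⊔ Q')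
    (isPGroup_sup_of_le_normalizer hUp hTs.isPGroup hUT) (sup_le_sup_left hTQ' _)
  set T₁ := P ⊓ Q' with hT₁
  have hT₁s : IsSyl 2 T₁ Q' := hP.inf_normal le_sup_right (sup_le hUQ' le_normalizer)
  have hTT₁ : T ≤ T₁ := le_inf (le_sup_right.trans hPle) hTQ'
  have hUT₁ : U ≤ normalizer (T₁ : Set G) :=
    le_normalizer_inf (le_normalizer_of_le (le_sup_left.trans hPle)) hUQ'
  have hC2 : ∀ u ∈ U, u ≠ 1 → T₁ ⊓ centralizer {u} ≤ T := by
    intro u hu hu1
    have h1 : T ⊔ (T₁ ⊓ centralizer {u}) ≤ T₁ := sup_le hTT₁ inf_le_left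
    rw [← hTs.eq_of_le (hT₁s.isPGroup.to_le h1) le_sup_left (le_inf (h1.trans inf_le_right)
      (sup_le hTN fun x hx => tightQ hu.2 hu1 (isPGroup_zpowers_of_mem hUp hu) (by
        rw [mem_centralizer_singleton_iff.mp hx.2]; simpa using hu.2)))]
    exact le_sup_right
  have hcard : Nat.card W = Nat.card T₁ := by
    rw [← card_map_conj W g]
    exact (hWs.conj g).card_eq_card hT₁s
  have e1 : U < W → ∃ f : T →* U, Function.Injective f := fun h =>
    embed hTs.isPGroup hWs.isPGroup hTW (eq_bot_iff.mpr (hTQ ▸ inf_le_inf_left _ inf_le_right)) h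
      (le_centralizer_iff.mp hTU) hC1
  have e2 : T < T₁ → ∃ f : U →* T, Function.Injective f := fun h =>
    embed hUp hT₁s.isPGroup hUT₁ (hbot _ (hUp.to_le inf_le_left) (inf_le_left.trans inf_le_right)
      (inf_le_right.trans inf_le_right)) h hTU hC2
  rcases hUW.lt_or_eq with h1 | h1 <;> rcases hTT₁.lt_or_eq with h2 | h2
  · obtain ⟨f, hf⟩ := e1 h1
    obtain ⟨f', hf'⟩ := e2 h2
    exact ⟨MulEquiv.ofBijective f' (hf'.bijective_of_nat_card_le
      (Nat.card_le_card_of_injective f hf))⟩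
  · obtain ⟨f, hf⟩ := e1 h1
    have := Nat.card_le_card_of_injective f hf
    have := card_lt_of_lt h1
    rw [← h2] at hcard
    omega
  · obtain ⟨f, hf⟩ := e2 h2
    have := Nat.card_le_card_of_injective f hf
    have := card_lt_of_lt h2
    rw [← h1] at hcard
    omega
  · obtain ⟨h, -, e⟩ := (hWs.conj g).exists_conj hT₁s
    rw [map_conj_map_conj, ← h1, ← h2] at e
    exact ⟨(U.equivMapOfInjective _ (MulAut.conj (h * g)).injective).trans
      (MulEquiv.subgroupCongr e)⟩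

end Cfsg.Agent.S1910
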