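import Cfsg.Statements.S1914
import Cfsg.Agent.Lib.Dih.Cyc4c

set_option autoImplicit false
open Cfsg

namespace Cfsg.Agent.S1914

open Subgroup Cfsg.Agent.Lib Cfsg.Agent.Lib.Core Cfsg.Agent.Lib.PGroup Cfsg.Agent.Lib.Dih

/-- Let A be a semisimple subgroup (a central product of quasisimple groups, A = E(A)) of a finite group and t an involution normalizing A such that the Sylow 2-subgroups of C_A(t) are cyclic of order 4. Then A has 2-rank exactly 1. -/
theorem result {G : Type*} [Group G] [Finite G] (A : Subgroup G) (hA : Cfsg.layer ↥A = ⊤)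
    (t : G) (ht : orderOf t = 2) (htA : t ∈ Subgroup.normalizer (A : Set G))
    (hC : ∀ R : Sylow 2 ↥(A ⊓ Subgroup.centralizer ({t} : Set G)), IsCyclic R ∧ Nat.card R = 4) :
    Cfsg.PRankLE 2 1 A ∧ ¬ Cfsg.PRankLE 2 0 A := by
  obtain ⟨R0⟩ : Nonempty (Sylow 2 ↥(A ⊓ centralizer ({t} : Set G))) := inferInstance
  have hR := isSyl_map_subtype R0
  obtain ⟨r, hr⟩ : ∃ r : G, zpowers r = R0.toSubgroup.map (A ⊓ centralizer ({t} : Set G)).subtype := by
    obtain ⟨r, e⟩ := (isCyclic_iff_exists_zpowers_eq_top (α := R0)).mp (hC R0).1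
    have := congrArg (fun H => (Subgroup.map R0.toSubgroup.subtype H).map (A ⊓ centralizer ({t} : Set G)).subtype) e
    simp only [MonoidHom.map_zpowers, ← MonoidHom.range_eq_map, range_subtype] at this
    exact ⟨_, this⟩
  have ho : orderOf r = 2 ^ (1 + 1) := by
    rw [← Nat.card_zpowers, hr, card_map_of_injective (subtype_injective _), (hC R0).2]; rfl
  rw [← hr] at hR
  have rA := hR.le (mem_zpowers r)
  have rt : Commute r t := mem_cent.mp rA.2
  have tt := Invol.mul_self_of_orderOf_two ht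
  have nc : NC A t := fun u hu v hv h1 h2 h3 h4 h5 h6 h7 => nc_of_cyclic (fun R => (hC R).1)
    (mem_inf.mpr ⟨hu, mem_cent.mpr h6⟩) (mem_inf.mpr ⟨hv, mem_cent.mpr h7⟩) h1 h2 h3 h4 h5
  have z2 := half_pow_mul_self ho
  have z1 := Invol.ne_one_of_orderOf_two (orderOf_half_pow ho)
  refine ⟨nc_iff.mp ?_, fun h => ?_⟩
  swap
  · have := h (zpowers ⟨r ^ 2 ^ 1, pow_mem rA.1 _⟩) inferInstance (by
      rintro _ ⟨k, rfl⟩
      rw [sq, ← (Commute.refl _).mul_zpow, show (⟨r ^ 2 ^ 1, pow_mem rA.1 _⟩ : A) * _ = 1 from Subtype.ext z2, one_zpow])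
    rw [Nat.card_zpowers, ← orderOf_coe, orderOf_half_pow ho] at this
    omega
  obtain ⟨T, hT, hRT⟩ := exists_isSyl_ge (isPGroup_sup_of_le_normalizer hR.isPGroup (pg_inv tt) (norm_of_comm rt))
    (sup_le_sup_right (zpowers_le.mpr rA.1) _)
  have hn := sup_le le_normalizer (zpowers_le.mpr htA)
  have hS := hT.inf_normal le_sup_left hn
  have tT := hRT (mem_sup_right (mem_zpowers t))
  have rS : r ∈ T ⊓ A := ⟨hRT (mem_sup_left (mem_zpowers r)), rA.1⟩
  have cent : ∀ s ∈ T ⊓ A, Commute s t → s ∈ zpowers r := fun s hs e =>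
    (hR.eq_of_le (Q := T ⊓ A ⊓ centralizer {t}) hS.isPGroup.to_inf_left (zpowers_le.mpr ⟨rS, rA.2⟩)
      (inf_le_inf_right _ inf_le_right)).le ⟨hs, mem_cent.mpr e⟩
  by_cases tA : t ∈ A
  · obtain ⟨z, -, h1, h2⟩ := exists_central_orderOf_eq hS.isPGroup (N := ⊤) fun e => z1 (congrArg Subtype.val
      (show (⟨_, pow_mem rS (2 ^ 1)⟩ : ↥(T ⊓ A)) = 1 from mem_bot.mp (e ▸ mem_top _)))
    have h3 : ∀ s ∈ T ⊓ A, Commute s z := fun s hs => congrArg Subtype.val (mem_center_iff.mp h1 ⟨s, hs⟩)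
    have key : ∀ s ∈ T ⊓ A, Commute s t → orderOf s = 2 → s = r ^ 2 ^ 1 := fun s hs e h =>
      (eq_one_or_eq_half_pow ho (cent s hs e) (h ▸ pow_orderOf_eq_one s)).resolve_left (Invol.ne_one_of_orderOf_two h)
    rw [key z z.2 (h3 t ⟨tT, tA⟩).symm (by rwa [orderOf_coe]), ← key t ⟨tT, tA⟩ (Commute.refl t) ht] at h3
    exact nc_of_syl hS fun u hu v hv h1 h2 a3 h4 h5 _ _ => nc u hu.2 v hv.2 h1 h2 a3 h4 h5 (h3 u hu) (h3 v hv)
  refine C4.main ⟨index_ne_two hA, hS, syl_sup hS (zpowers_le.mpr htA) (hT.isPGroup.to_le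
    (sup_le inf_le_left (zpowers_le.mpr tT))), htA, le_normalizer_inf le_normalizer (hT.le.trans hn) tT, tt, tA, rS, ho, rt,
    cent, nc⟩ fun hs => ?_
  have h1 := commutator_EOf (⊤ : Subgroup A)
  rw [EOf_top, hA] at h1
  haveI : Nontrivial A := ⟨⟨⟨_, pow_mem rA.1 (2 ^ 1)⟩, 1, fun e => z1 (congrArg Subtype.val e)⟩⟩
  exact (Group.IsSolvable.commutator_lt_top_of_nontrivial A).ne h1

end Cfsg.Agent.S1914
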