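import Cfsg.Statements.S1915
import Cfsg.Agent.Lib.Dih.Four

set_option autoImplicit false
open Cfsg

namespace Cfsg.Agent.S1915

/-- Let A be a semisimple subgroup (A = E(A)) of a finite group and U a Klein four-group normalizing A. If the subgroup of A generated by the normalizers N_A(V) of the nontrivial subgroups V of U has 2-rank exactly 1, then A has 2-rank exactly 1. -/
theorem result {G : Type*} [Group G] [Finite G] (A : Subgroup G) (hA : Cfsg.layer ↥A = ⊤)
    (U : Subgroup G) (hU : IsKleinFour U) (hUA : U ≤ Subgroup.normalizer (A : Set G))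
    (hΓ : Cfsg.PRankLE 2 1 ↥(⨆ V : {V : Subgroup G // V ≤ U ∧ V ≠ ⊥}, A ⊓ Subgroup.normalizer ((V : Subgroup G) : Set G)) ∧
      ¬ Cfsg.PRankLE 2 0 ↥(⨆ V : {V : Subgroup G // V ≤ U ∧ V ≠ ⊥}, A ⊓ Subgroup.normalizer ((V : Subgroup G) : Set G))) :
    Cfsg.PRankLE 2 1 A ∧ ¬ Cfsg.PRankLE 2 0 A := by
  classical
  have hN : ∀ t ∈ U, t ≠ 1 → Lib.Dih.NC A t := fun t ht h1 u hu v hv a1 a2 a3 a4 a5 a6 a7 => by
    have : ∀ w ∈ A, Commute w t → w ∈ (⨆ V : {V : Subgroup G // V ≤ U ∧ V ≠ ⊥},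
        A ⊓ Subgroup.normalizer ((V : Subgroup G) : Set G)) := fun w hw e => Subgroup.mem_iSup_of_mem
      ⟨Subgroup.zpowers t, Subgroup.zpowers_le.mpr ht, by simpa using h1⟩
      ⟨hw, Lib.Dih.norm_of_comm e (Subgroup.mem_zpowers w)⟩
    exact Lib.Dih.nc_iff.mpr hΓ.1 u (this u hu a6) v (this v hv a7) a1 a2 a3 a4 a5 (Commute.one_right _)
      (Commute.one_right _)
  haveI := Fintype.ofFinite U
  obtain ⟨a, ha, b, hb, e⟩ := Finset.one_lt_card.mp (show 1 < (Finset.univ.erase (1 : U)).card by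
    rw [Finset.card_erase_of_mem (Finset.mem_univ _), Finset.card_univ, ← Nat.card_eq_fintype_card, hU.card_four]; omega)
  have h2 : ∀ u : U, (u : G) * u = 1 := fun u => congrArg Subtype.val (IsKleinFour.mul_self u)
  refine ⟨Lib.Dih.nc_iff.mp (Lib.Dih.four_action (Lib.Dih.index_ne_two hA) (h2 a) (h2 b) ?_ (hUA a.2) (hUA b.2)
    (hN a a.2 fun e => Finset.ne_of_mem_erase ha (Subtype.ext e))
    (hN b b.2 fun e => Finset.ne_of_mem_erase hb (Subtype.ext e))
    (hN _ (mul_mem a.2 b.2) fun h => e (Subtype.ext (mul_left_cancel ((h2 a).trans h.symm))))), fun h => hΓ.2 ?_⟩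
  · have := h2 (a * b)
    rw [Subgroup.coe_mul, ← eq_inv_iff_mul_eq_one, mul_inv_rev, inv_eq_of_mul_eq_one_right (h2 a),
      inv_eq_of_mul_eq_one_right (h2 b)] at this
    exact this
  · intro E hE h1
    have := h (E.map (Subgroup.inclusion (iSup_le fun _ => inf_le_left))) inferInstance (by
      rintro _ ⟨a, ha, rfl⟩; rw [← map_pow, h1 a ha, map_one])
    rwa [Subgroup.card_map_of_injective (Subgroup.inclusion_injective _)] at this

end Cfsg.Agent.S1915
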