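import Cfsg.Statements.S1916
import Cfsg.Agent.Lib.Dih.Red3

set_option autoImplicit false
open Cfsg

namespace Cfsg.Agent.S1916

/-- Let L be a non-abelian simple subgroup of a finite group with dihedral Sylow 2-subgroups, and a, b two distinct commuting involutions normalizing L such that C_L(a) and C_L(b) have cyclic Sylow 2-subgroups and L is not contained in the subgroup generated by a, b, C_L(a) and C_L(b). Then ab centralizes L. -/
theorem result {G : Type*} [Group G] [Finite G] (L : Subgroup G) (hL : IsSimpleGroup L) (hLn : ¬ IsMulCommutative L)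
    (hD : ∀ P : Sylow 2 L, ∃ n : ℕ, Nonempty (↥(P : Subgroup L) ≃* DihedralGroup n))
    (a b : G) (ha : orderOf a = 2) (hb : orderOf b = 2) (hab : a ≠ b) (hc : a * b = b * a)
    (haL : a ∈ Subgroup.normalizer (L : Set G)) (hbL : b ∈ Subgroup.normalizer (L : Set G))
    (hCa : ∀ R : Sylow 2 ↥(L ⊓ Subgroup.centralizer ({a} : Set G)), IsCyclic R)
    (hCb : ∀ R : Sylow 2 ↥(L ⊓ Subgroup.centralizer ({b} : Set G)), IsCyclic R)
    (hgen : ¬ L ≤ Subgroup.closure ({a, b} : Set G) ⊔ (L ⊓ Subgroup.centralizer ({a} : Set G)) ⊔ (L ⊓ Subgroup.centralizer ({b} : Set G))) :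
    a * b ∈ Subgroup.centralizer (L : Set G) := by
  by_contra hne
  let φ := L.normalizerMonoidHom
  have hφ : ∀ (g : G) (hg : g ∈ Subgroup.normalizer (L : Set G)) (u : L), (φ ⟨g, hg⟩ u : G) = g * u * g⁻¹ :=
    fun _ _ _ => rfl
  have h2 : ∀ (g : G) (hg : g ∈ Subgroup.normalizer (L : Set G)), orderOf g = 2 → φ ⟨g, hg⟩ * φ ⟨g, hg⟩ = 1 :=
    fun g hg h => by rw [← map_mul, ← map_one φ]; exact congrArg φ (Subtype.ext (Lib.Invol.mul_self_of_orderOf_two h))
  have hf : ∀ (g : G) (hg : g ∈ Subgroup.normalizer (L : Set G)) (u : L), φ ⟨g, hg⟩ u = u →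
      (u : G) ∈ L ⊓ Subgroup.centralizer ({g} : Set G) := fun g hg u h =>
    ⟨u.2, Lib.Dih.mem_cent.mpr (mul_inv_eq_iff_eq_mul.mp ((hφ g hg u).symm.trans (congrArg Subtype.val h))).symm⟩
  have := Lib.Dih.aut_core hLn hD (h2 a haL ha) (h2 b hbL hb)
    (Commute.map (show Commute (⟨a, haL⟩ : Subgroup.normalizer (L : Set G)) ⟨b, hbL⟩ from Subtype.ext hc) φ)
    (fun e => hne (by
      have : φ (⟨a, haL⟩ * ⟨b, hbL⟩) = 1 := by rw [map_mul, e, h2 b hbL hb]
      rwa [← MonoidHom.mem_ker, Subgroup.normalizerMonoidHom_ker] at this))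
    (fun γ hγ u v h1 h2 h3 h4 h5 h6 h7 => Subtype.ext (by
      rcases hγ with rfl | rfl
      · exact Lib.Dih.nc_of_cyclic hCa (hf _ _ u h6) (hf _ _ v h7) (congrArg Subtype.val h1) (congrArg Subtype.val h2)
          (fun e => h3 (Subtype.ext e)) (fun e => h4 (Subtype.ext e)) (congrArg Subtype.val h5)
      · exact Lib.Dih.nc_of_cyclic hCb (hf _ _ u h6) (hf _ _ v h7) (congrArg Subtype.val h1) (congrArg Subtype.val h2)
          (fun e => h3 (Subtype.ext e)) (fun e => h4 (Subtype.ext e)) (congrArg Subtype.val h5)))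
    (A := (L ⊓ Subgroup.centralizer ({a} : Set G)).subgroupOf L) (B := (L ⊓ Subgroup.centralizer ({b} : Set G)).subgroupOf L)
    (hf a haL) (hf b hbL)
  refine hgen fun g hg => (Subgroup.mem_subgroupOf (h := ⟨g, hg⟩)).mp <| sup_le (c := Subgroup.subgroupOf _ L) (Subgroup.comap_mono ?_) (Subgroup.comap_mono ?_)
    (this ▸ Subgroup.mem_top (⟨g, hg⟩ : L))
  exacts [le_sup_right.trans le_sup_left, le_sup_right]

end Cfsg.Agent.S1916
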