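import Cfsg.Statements.S1917
import Cfsg.Agent.Lib.Pt.Red
import Cfsg.Agent.Lib.Pt.End

set_option autoImplicit false
open Cfsg

namespace Cfsg.Agent.S1917

/-- Let G be a finite group and A an elementary abelian group of automorphisms of G of order coprime to that of G. Suppose that for every prime p dividing the order of G exactly one Sylow p-subgroup of G is A-invariant, and that the subgroup of fixed points of A has odd order. Then G is solvable. -/
theorem result {G : Type*} [Group G] [Finite G] (A : Subgroup (MulAut G)) {r : ℕ} [Fact r.Prime]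
    (hA : Cfsg.IsElementaryAbelian r A) (hcop : (Nat.card A).Coprime (Nat.card G))
    (huniq : ∀ p : ℕ, p.Prime → p ∣ Nat.card G →
      ∃! P : Sylow p G, ∀ φ ∈ A, (P : Subgroup G).map (MulEquiv.toMonoidHom φ) = P)
    (hodd : Odd (Nat.card {g : G // ∀ φ ∈ A, φ g = g})) :
    Group.IsSolvable G := by
  by_cases h0 : A = ⊥
  · obtain ⟨s, hs, hsp⟩ := Nat.exists_infinite_primes (Nat.card G + 1)
    haveI := Fact.mk hsp
    refine Lib.Pt.red_final (r := s) (fun _ _ _ _ _ h => h.false) A ⟨hA.1, fun a ha => ?_⟩
      (fun e => ?_) huniq hodd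
    · rw [h0, Subgroup.mem_bot] at ha
      rw [ha, one_pow]
    · have := Nat.le_of_dvd Nat.card_pos e
      omega
  · refine Lib.Pt.red_final (r := r) (fun _ _ _ _ _ h => h.false) A hA (fun e => ?_) huniq hodd
    have h1 : r ∣ Nat.card A := Lib.Core.dvd_card_of_isPGroup_of_ne_bot
      (Lib.Core.isPGroup_of_forall_pow fun x hx => ⟨1, by simpa using hA.2 x hx⟩) h0
    exact (Fact.out : r.Prime).one_lt.ne' (Nat.eq_one_of_dvd_coprimes hcop h1 e)

end Cfsg.Agent.S1917
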