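import Cfsg.Statements.S1921
import Cfsg.Agent.Lib.Core.Components
-- import your own Cfsg.Agent.* helpers here

set_option autoImplicit false
open Cfsg

namespace Cfsg.Agent.S1921

open Cfsg.Agent.Lib.Core Subgroup
open scoped Pointwise commutatorElement


/-- Let a be an involution of a finite group H and L a component of H with a L a⁻¹ ≠ L; put M = ⟨L, aLa⁻¹⟩ and let J be the subgroup generated by the elements x · a x a⁻¹ with x ∈ L (the diagonal). Then every element of M outside J·Z(M) generates M together with J. -/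
theorem result {H : Type*} [Group H] [Finite H] (a : H) (ha : orderOf a = 2) (L : Subgroup H) (hL : Cfsg.IsComponent L)
    (hLa : L.map (MulAut.conj a).toMonoidHom ≠ L) (x : H) (hxM : x ∈ L ⊔ L.map (MulAut.conj a).toMonoidHom)
    (hxJ : x ∉ Subgroup.closure {y : H | ∃ l ∈ L, y = l * (a * l * a⁻¹)} ⊔
      ((L ⊔ L.map (MulAut.conj a).toMonoidHom) ⊓ Subgroup.centralizer ((L ⊔ L.map (MulAut.conj a).toMonoidHom : Subgroup H) : Set H))) :
    Subgroup.closure {y : H | ∃ l ∈ L, y = l * (a * l * a⁻¹)} ⊔ Subgroup.zpowers x = L ⊔ L.map (MulAut.conj a).toMonoidHom := by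
  have hc : Comp ⊤ L := comp_top_iff.mpr hL
  have hc' : Comp ⊤ (L.map (MulAut.conj a).toMonoidHom) := hc.conj (le_normalizer_of_normal (mem_top a))
  have hcomm : L.map (MulAut.conj a).toMonoidHom ≤ centralizer (L : Set H) :=
    hc'.le_centralizer_of_ne hc hLa
  set L' := L.map (MulAut.conj a).toMonoidHom with hL'
  set J := Subgroup.closure {y : H | ∃ l ∈ L, y = l * (a * l * a⁻¹)} with hJ
  have hδ : ∀ l ∈ L, l * (a * l * a⁻¹) ∈ J := fun l hl => subset_closure ⟨l, hl, rfl⟩
  have hm : ∀ l ∈ L, a * l * a⁻¹ ∈ L' := fun l hl => conj_mem_map_conj.mpr hl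
  have hcm : ∀ l ∈ L, ∀ y ∈ L, y * (a * l * a⁻¹) = (a * l * a⁻¹) * y :=
    fun l hl y hy => hcomm (hm l hl) y hy
  refine le_antisymm (sup_le (closure_le _ |>.mpr ?_) (zpowers_le.mpr hxM)) ?_
  · rintro _ ⟨l, hl, rfl⟩
    exact mul_mem (mem_sup_left hl) (mem_sup_right (hm l hl))
  obtain ⟨u, hu, _, ⟨v, hv, rfl⟩, rfl⟩ := (mem_sup_of_le_normalizer_left
    (le_normalizer_of_le_centralizer hcomm)).mp hxM
  change u * (a * v * a⁻¹) ∉ _ at hxJ
  change _ ≤ J ⊔ zpowers (u * (a * v * a⁻¹))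
  set K := J ⊔ zpowers (u * (a * v * a⁻¹)) with hK
  have hw : u * v⁻¹ ∈ K := by
    have := mul_mem (mem_sup_right (mem_zpowers _) : u * (a * v * a⁻¹) ∈ K)
      (inv_mem (mem_sup_left (hδ v hv) : _ ∈ K))
    convert this using 1
    group
  have hn : L ≤ normalizer ((K ⊓ L : Subgroup H) : Set H) := by
    intro l hl
    refine mem_normalizer_of_conj_mem fun y hy =>
      mem_inf.mpr ⟨?_, mul_mem (mul_mem hl hy.2) (inv_mem hl)⟩
    have := mul_mem (mul_mem (mem_sup_left (hδ l hl) : _ ∈ K) hy.1)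
      (inv_mem (mem_sup_left (hδ l hl) : _ ∈ K))
    rw [mul_assoc l, ← hcm l hl y hy.2] at this
    convert this using 1
    group
  have hLK : L ≤ K := by
    rcases hc.qs.dichotomy _ inf_le_right hn with h | h
    · exfalso
      apply hxJ
      have huv : u * v⁻¹ ∈ L := mul_mem hu (inv_mem hv)
      have : u * (a * v * a⁻¹) = (u * v⁻¹) * (v * (a * v * a⁻¹)) := by group
      rw [this]
      refine mul_mem (mem_sup_right ⟨mem_sup_left huv, ?_⟩) (mem_sup_left (hδ v hv))
      rw [centralizer_sup]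
      exact ⟨h ⟨hw, huv⟩, le_centralizer_iff.mp hcomm huv⟩
    · rw [← h]; exact inf_le_left
  refine sup_le hLK ?_
  rintro _ ⟨l, hl, rfl⟩
  have := mul_mem (inv_mem (hLK hl)) (mem_sup_left (hδ l hl) : _ ∈ K)
  simpa using this

end Cfsg.Agent.S1921
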