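import Cfsg.Statements.S1922
import Cfsg.Agent.Lib.Core.Syl
import Cfsg.Agent.Lib.Invol.StronglyEmbedded
-- import your own Cfsg.Agent.* helpers here

set_option autoImplicit false
open Cfsg

namespace Cfsg.Agent.S1922

open Cfsg.Agent.Lib.Core Subgroup
open scoped Pointwise commutatorElement

open Cfsg.Agent.Lib.Invol

theorem odd_card_of_involution {X : Type*} [DecidableEq X] (s : Finset X) (f : X → X)
    (hf : ∀ x, f (f x) = x) (hs : ∀ x ∈ s, f x ∈ s) (x₀ : X) (hx₀ : x₀ ∈ s)
    (hfix : ∀ x ∈ s, f x = x ↔ x = x₀) : Odd s.card := by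
  have h := Finset.sum_involution (s := s.erase x₀) (f := fun _ => (1 : ZMod 2))
    (fun a _ => f a) (fun _ _ => by decide)
    (fun a ha _ h => (Finset.mem_erase.mp ha).1 ((hfix a (Finset.mem_erase.mp ha).2).mp h))
    (fun a ha => Finset.mem_erase.mpr ⟨fun h => (Finset.mem_erase.mp ha).1 (by
      rw [← hf a, h, (hfix x₀ hx₀).mpr rfl]), hs a (Finset.mem_erase.mp ha).2⟩)
    (fun a _ => hf a)
  rw [Finset.sum_const, nsmul_eq_mul, mul_one, ZMod.natCast_eq_zero_iff_even] at h
  rw [← Finset.card_erase_add_one hx₀]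
  exact h.add_one

theorem odd_class {G Ω : Type*} [Group G] [Finite G] [Finite Ω] [MulAction G Ω]
    [MulAction.IsPretransitive G Ω] {z : G} (hz : orderOf z = 2) {α : Ω}
    (h0 : ∀ β, z • β = β ↔ β = α) (hne : ∃ β, β ≠ α)
    (h1 : ∀ t : G, IsConj z t → t ≠ z → t * z = z * t → ∀ β, (z * t) • β = β ↔ β = α) :
    Odd (Nat.card {y : G // IsConj z y}) := by
  classical
  haveI := Fintype.ofFinite G
  haveI := Fintype.ofFinite Ω
  let D : Finset G := Finset.univ.filter fun y => IsConj z y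
  have hD : ∀ y, y ∈ D ↔ IsConj z y := fun y => by simp [D]
  have hDo : ∀ y ∈ D, orderOf y = 2 := fun y hy =>
    (orderOf_eq_of_isConj ((hD y).mp hy)).symm.trans hz
  have hD2 : ∀ y ∈ D, y * y = 1 := fun y hy => mul_self_of_orderOf_two (hDo y hy)
  have hDc : ∀ y ∈ D, ∀ g : G, g * y * g⁻¹ ∈ D := fun y hy g =>
    (hD _).mpr (((hD y).mp hy).trans (isConj_iff.mpr ⟨g, rfl⟩))
  have hconj : ∀ (x g : G) (ω : Ω), (∀ β, x • β = β ↔ β = ω) →
      ∀ β, (g * x * g⁻¹) • β = β ↔ β = g • ω := by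
    intro x g ω h β
    rw [mul_smul, mul_smul, smul_eq_iff_eq_inv_smul, h, inv_smul_eq_iff]
  have huniq : ∀ y ∈ D, ∃ ω : Ω, ∀ β, y • β = β ↔ β = ω := by
    intro y hy
    obtain ⟨g, rfl⟩ := isConj_iff.mp ((hD y).mp hy)
    exact ⟨_, hconj z g α h0⟩
  have huniq2 : ∀ s ∈ D, ∀ t ∈ D, s ≠ t → Commute s t → ∃ ω : Ω, ∀ β, (s * t) • β = β ↔ β = ω := by
    intro s hs t ht hst hc
    obtain ⟨g, rfl⟩ := isConj_iff.mp ((hD s).mp hs)
    have := hconj _ g α (h1 (g⁻¹ * t * g) ((hD _).mp (by simpa using hDc t ht g⁻¹))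
      (fun h => hst (by rw [← h]; group)) (by
        have := hc.eq
        calc g⁻¹ * t * g * z = g⁻¹ * (t * (g * z * g⁻¹)) * g := by group
          _ = g⁻¹ * ((g * z * g⁻¹) * t) * g := by rw [this]
          _ = _ := by group))
    refine ⟨g • α, ?_⟩
    convert this using 3
    group
  -- products of conjugates with different fixed points have odd order
  have hodd : ∀ s ∈ D, ∀ t ∈ D, ∀ β γ : Ω, β ≠ γ → s • β = β → t • γ = γ →
      Odd (orderOf (s * t)) := by
    intro s hs t ht β γ hβγ hsβ htγ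
    rw [← Nat.not_even_iff_odd]
    intro hev
    obtain ⟨hu2, hus, hut⟩ := half_pow_central (hD2 s hs) (hD2 t ht) hev
    set m := orderOf (s * t) / 2 with hm
    set u := (s * t) ^ m with hu
    have hfix : ∀ y ∈ D, ∀ ω : Ω, Commute u y → y • ω = ω → u • ω = ω := by
      intro y hy ω hc hω
      obtain ⟨ω', h'⟩ := huniq y hy
      rw [(h' _).mp hω, ← h', ← mul_smul, ← hc.eq, mul_smul, (h' _).mpr rfl]
    have hsu : s * u ∈ D := by
      have hinv := conj_mul_eq_inv (hD2 s hs) (hD2 t ht)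
      rcases Nat.even_or_odd' m with ⟨k, hk | hk⟩
      · have := zpow_conj_of_inverts hinv (-(k : ℤ))
        rw [show -2 * -(k : ℤ) = ((2 * k : ℕ) : ℤ) by push_cast; ring, zpow_natCast, ← hk] at this
        rw [hu, ← this]
        exact hDc s hs _
      · have := zpow_conj_of_inverts hinv (-(k : ℤ))
        rw [show -2 * -(k : ℤ) = ((2 * k : ℕ) : ℤ) by push_cast; ring, zpow_natCast] at this
        have e : s * u = (s * t) ^ (-(k : ℤ)) * t * ((s * t) ^ (-(k : ℤ)))⁻¹ := by
          have e1 : t = s * (s * t) := by rw [← mul_assoc, hD2 s hs, one_mul]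
          rw [hu, hk, pow_succ, ← mul_assoc, ← this]
          generalize s * t = r at e1 ⊢
          rw [e1]; group
        rw [e]
        exact hDc t ht _
    obtain ⟨ω, hω⟩ := huniq2 s hs _ hsu (fun h => ne_one_of_orderOf_two hu2 (by simpa using h))
      ((Commute.refl s).mul_right hus.symm)
    rw [← mul_assoc, hD2 s hs, one_mul] at hω
    exact hβγ (((hω β).mp (hfix s hs β hus hsβ)).trans ((hω γ).mp (hfix t ht γ hut htγ)).symm)
  let F : Ω → Finset G := fun β => D.filter fun y => y • β = β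
  let W : Ω → Finset G := fun β => D.filter fun y => y • α = β
  have hF : ∀ β, (F β).card = (F α).card := by
    intro β
    obtain ⟨g, rfl⟩ := MulAction.exists_smul_eq G α β
    symm
    refine Finset.card_bij (fun y _ => g * y * g⁻¹) (fun y hy => ?_) (fun a _ b _ h => by simpa using h)
      (fun y hy => ⟨g⁻¹ * y * g, ?_, by group⟩)
    · obtain ⟨h1, h2⟩ := Finset.mem_filter.mp hy
      exact Finset.mem_filter.mpr ⟨hDc y h1 g, by simp [mul_smul, h2]⟩
    · obtain ⟨h1, h2⟩ := Finset.mem_filter.mp hy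
      exact Finset.mem_filter.mpr ⟨by simpa using hDc y h1 g⁻¹, by simp [mul_smul, h2]⟩
  have hsumF : D.card = ∑ β, (F β).card := by
    simp only [F, Finset.card_filter]
    rw [Finset.sum_comm, Finset.card_eq_sum_ones]
    refine Finset.sum_congr rfl fun y hy => ?_
    obtain ⟨ω, hω⟩ := huniq y hy
    simp [hω]
  have hsumW : D.card = ∑ β, (W β).card :=
    Finset.card_eq_sum_card_fiberwise (f := fun y => y • α) (fun _ _ => Finset.mem_univ _)
  have hzF : ∀ β, ∃ s, s ∈ F β := by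
    intro β
    apply Finset.card_pos.mp
    rw [hF]
    exact Finset.card_pos.mpr ⟨z, Finset.mem_filter.mpr ⟨(hD z).mpr (IsConj.refl z), (h0 α).mpr rfl⟩⟩
  have hle : ∀ β, (F β).card ≤ (W β).card := by
    intro β
    rw [hF]
    by_cases hβ : β = α
    · rw [hβ]
    obtain ⟨s, hs⟩ := hzF β
    obtain ⟨hsD, hsβ⟩ := Finset.mem_filter.mp hs
    refine Finset.card_le_card_of_surjOn (fun w => w * s * w⁻¹) fun t ht => ?_
    obtain ⟨htD, htα⟩ := Finset.mem_filter.mp ht
    have ho := hodd s hsD t htD β α hβ hsβ htα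
    obtain ⟨k, hk⟩ := exists_pow_conj_of_odd (hD2 s hsD) (hD2 t htD) ho
    -- `w = (s t)^k s` is an involution conjugate to `s`
    have hinv := conj_mul_eq_inv (hD2 s hsD) (hD2 t htD)
    have hw : (s * t) ^ k * s ∈ D := by
      obtain ⟨j, hj⟩ := ho
      have h1 := zpow_conj_of_inverts hinv (-(j * k : ℕ) : ℤ)
      have h2 := zpow_mul_of_inverts hinv (k : ℤ)
      have h3 : (s * t) ^ (-2 * (-(j * k : ℕ) : ℤ)) = (s * t) ^ (-(k : ℤ)) := by
        rw [zpow_eq_zpow_iff_modEq, hj]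
        refine Int.modEq_iff_dvd.mpr ⟨-k, ?_⟩
        push_cast; ring
      rw [h3, ← h2, zpow_natCast] at h1
      rw [← h1]
      exact hDc s hsD _
    have hwt : (s * t) ^ k * s * s * ((s * t) ^ k * s)⁻¹ = t := by
      conv_rhs => rw [← hk]
      group
    refine ⟨(s * t) ^ k * s, Finset.mem_filter.mpr ⟨hw, ?_⟩, hwt⟩
    obtain ⟨ω, hω⟩ := huniq s hsD
    have h3 := (hconj s _ ω hω α).mp (hwt.symm ▸ htα)
    rw [h3, ← mul_smul, hD2 _ hw, one_smul, (hω β).mp hsβ]
  have heq := (Finset.sum_eq_sum_iff_of_le (fun β _ => hle β)).mp (hsumF.symm.trans hsumW)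
  obtain ⟨β, hβ⟩ := hne
  have hWodd : Odd (W β).card := by
    obtain ⟨w, hw⟩ : (W β).Nonempty := by
      rw [← Finset.card_pos, ← heq β (Finset.mem_univ _), Finset.card_pos]
      exact hzF β
    obtain ⟨hwD, hwα⟩ := Finset.mem_filter.mp hw
    have hswap : ∀ y ∈ W β, y • β = α := by
      intro y hy
      obtain ⟨hyD, hyα⟩ := Finset.mem_filter.mp hy
      rw [← hyα, ← mul_smul, hD2 y hyD, one_smul]
    have hwi : w⁻¹ = w := inv_eq_of_orderOf_two (hDo w hwD)
    refine odd_card_of_involution _ (fun y => w * y * w⁻¹) (fun y => ?_) (fun y hy => ?_) w hw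
      (fun y hy => ⟨fun h => ?_, fun h => by simp [h]⟩)
    · calc w * (w * y * w⁻¹) * w⁻¹ = (w * w) * y * (w * w)⁻¹ := by group
        _ = y := by rw [hD2 w hwD]; simp
    · refine Finset.mem_filter.mpr ⟨hDc y (Finset.mem_filter.mp hy).1 w, ?_⟩
      rw [hwi, mul_smul, mul_smul, hwα, hswap y hy, hwα]
    · by_contra hne
      obtain ⟨hyD, hyα⟩ := Finset.mem_filter.mp hy
      obtain ⟨ω, hω⟩ := huniq2 w hwD y hyD (Ne.symm hne) (mul_inv_eq_iff_eq_mul.mp h)
      apply hβ
      rw [(hω β).mp (by rw [mul_smul, hswap y hy, hwα]),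
        (hω α).mp (by rw [mul_smul, hyα, hswap w hw])]
  have hΩ : Odd (Finset.univ : Finset Ω).card :=
    odd_card_of_involution _ (fun β => z • β)
      (fun β => by rw [← mul_smul, mul_self_of_orderOf_two hz, one_smul])
      (fun _ _ => Finset.mem_univ _) α (Finset.mem_univ _) (fun β _ => h0 β)
  rw [Nat.card_eq_fintype_card, Fintype.card_subtype]
  change Odd D.card
  rw [hsumF, Finset.sum_congr rfl fun γ _ => (hF γ).trans (hF β).symm, Finset.sum_const,
    smul_eq_mul, heq β (Finset.mem_univ _)]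
  exact hΩ.mul hWodd

/-- Let z be an involution of a finite group G and H a proper subgroup such that z lies in gHg⁻¹ exactly when g ∈ H. Then the following are equivalent: (1) for every conjugate t ≠ z of z commuting with z, the product zt lies in gHg⁻¹ exactly when g ∈ H; (2) z lies in the centre of some Sylow 2-subgroup of G, and for every conjugate t ≠ z of z commuting with z, the centralizer of zt is contained in H. -/
theorem result {G : Type*} [Group G] [Finite G] (z : G) (hz : orderOf z = 2) (H : Subgroup G) (hH : H ≠ ⊤)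
    (h0 : ∀ g : G, z ∈ H.map (MulAut.conj g).toMonoidHom ↔ g ∈ H) :
    (∀ t : G, IsConj z t → t ≠ z → t * z = z * t → ∀ g : G, z * t ∈ H.map (MulAut.conj g).toMonoidHom ↔ g ∈ H) ↔
      ((∃ P : Sylow 2 G, z ∈ (Subgroup.center ↥(P : Subgroup G)).map (P : Subgroup G).subtype) ∧
        ∀ t : G, IsConj z t → t ≠ z → t * z = z * t → Subgroup.centralizer ({z * t} : Set G) ≤ H) := by
  simp only [mem_map_conj] at h0 ⊢
  have hcen : ∀ x : G, (∀ g : G, g⁻¹ * x * g ∈ H ↔ g ∈ H) → centralizer ({x} : Set G) ≤ H := by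
    intro x hx c hc
    rw [← hx, mul_assoc, ← mem_centralizer_singleton_iff.mp hc, inv_mul_cancel_left]
    simpa using (hx 1).mpr H.one_mem
  have hq : ∀ x : G, (∀ g : G, g⁻¹ * x * g ∈ H ↔ g ∈ H) →
      ∀ β : G ⧸ H, x • β = β ↔ β = ((1 : G) : G ⧸ H) := by
    intro x hx β
    induction β using QuotientGroup.induction_on with
    | H g => rw [smul_mk_eq_iff, hx, eq_comm, QuotientGroup.eq]; simp
  have hz2 : IsPGroup 2 (zpowers z) := isPGroup_zpowers_of_involution hz
  constructor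
  · intro h1
    refine ⟨?_, fun t ht htz hc => hcen _ (h1 t ht htz hc)⟩
    obtain ⟨g, hg⟩ : ∃ g, g ∉ H := by
      by_contra! h
      exact hH (eq_top_iff.mpr fun g _ => h g)
    have hodd := odd_class (Ω := G ⧸ H) hz (hq z h0) ⟨g, fun h => hg (by
      rw [eq_comm, QuotientGroup.eq] at h; simpa using h)⟩
      (fun t ht htz hc => hq _ (h1 t ht htz hc))
    rw [card_conj_eq_index] at hodd
    obtain ⟨P, hP, hzP⟩ := exists_isSyl_ge (H := centralizer ({z} : Set G)) hz2
      (zpowers_le.mpr (mem_centralizer_singleton_iff.mpr rfl))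
    obtain ⟨S, hS⟩ := (hP.trans le_top (by
      rw [relIndex_top_right]; exact hodd.not_two_dvd_nat)).exists_sylow_top
    refine ⟨S, ?_⟩
    rw [map_subtype_center, hS]
    refine ⟨hzP (mem_zpowers z), fun y hy => ?_⟩
    exact mem_centralizer_singleton_iff.mp (hP.le hy)
  · rintro ⟨⟨S, hS⟩, h2⟩ t ht htz hc g
    rw [map_subtype_center] at hS
    have hCH := h2 t ht htz hc
    have hzt : z * t ∈ H := hCH (mem_centralizer_singleton_iff.mpr rfl)
    refine ⟨fun hg => ?_, fun hg => mul_mem (mul_mem (inv_mem hg) hzt) hg⟩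
    have hSH : (S : Subgroup G) ≤ H := by
      refine le_trans (fun y hy => ?_) (hcen z h0)
      exact mem_centralizer_singleton_iff.mpr (hS.2 y hy)
    have hu : IsPGroup 2 (zpowers (g⁻¹ * (z * t) * g)) := by
      refine isPGroup_zpowers (k := 1) ?_
      have ht2 : t * t = 1 :=
        mul_self_of_orderOf_two ((orderOf_eq_of_isConj ht).symm.trans hz)
      calc (g⁻¹ * (z * t) * g) ^ 2 ^ 1 = g⁻¹ * (z * (t * z) * t) * g := by
            rw [pow_one, pow_two]; group
        _ = g⁻¹ * ((z * z) * (t * t)) * g := by rw [hc]; group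
        _ = 1 := by rw [ht2, mul_self_of_orderOf_two hz]; simp
    obtain ⟨h, hh, hle⟩ := ((isSyl_sylow S).mono hSH le_top).exists_conj_le hu (zpowers_le.mpr hg)
    have h3 := hS.2 _ (map_conj_le_iff.mp hle _ (mem_zpowers _))
    have h4 : (g * h⁻¹) * z * (g * h⁻¹)⁻¹ ∈ H := by
      refine hCH (mem_centralizer_singleton_iff.mpr ?_)
      calc g * h⁻¹ * z * (g * h⁻¹)⁻¹ * (z * t)
          = g * h⁻¹ * (z * (h * (g⁻¹ * (z * t) * g) * h⁻¹)) * (g * h⁻¹)⁻¹ := by group
        _ = _ := by rw [← h3]; group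
    have h5 := (h0 (g * h⁻¹)⁻¹).mp (by rwa [inv_inv])
    simpa using mul_mem (inv_mem h5) hh

end Cfsg.Agent.S1922
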