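import Cfsg.Statements.S1930
import Cfsg.Agent.Lib.Flav.ZJ
import Cfsg.Agent.Lib.Core.Components

set_option autoImplicit false
open Cfsg

namespace Cfsg.Agent.S1930

open Subgroup Cfsg.Agent.Lib.Core Cfsg.Agent.Lib.Glaub Cfsg.Agent.Lib.Flav

/-- Inside a finite group let G be a nontrivial subgroup and R an r-subgroup (r a prime) normalizing G, with the order of G prime to r. Let p > 3 be a prime with F*(G) = O_p(G), and let P be the intersection of all R-invariant Sylow p-subgroups of G. Then P has a nontrivial characteristic subgroup that is normalized by G. -/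
theorem result {X : Type*} [Group X] [Finite X] (G R : Subgroup X) (r : ℕ) [Fact r.Prime] (hR : IsPGroup r ↥R) (hcop : (Nat.card ↥G).Coprime r) (hnorm : R ≤ Subgroup.normalizer (G : Set X)) (hG : G ≠ ⊥) (p : ℕ) [Fact p.Prime] (hp : 3 < p) (hF : Cfsg.generalizedFittingSubgroup ↥G = Cfsg.pCore p ↥G) (P : Subgroup X) (hP : P = ⨅ S : {S : Sylow p ↥G // ∀ a ∈ R, ((S : Subgroup ↥G).map G.subtype).map (MulAut.conj a).toMonoidHom = (S : Subgroup ↥G).map G.subtype}, ((S : Sylow p ↥G) : Subgroup ↥G).map G.subtype) : ∃ C : Subgroup ↥P, C.Characteristic ∧ C ≠ ⊥ ∧ G ≤ Subgroup.normalizer ((C.map P.subtype : Subgroup X) : Set X) := by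
  have hA : Act r G R := ⟨hR, (Nat.Prime.coprime_iff_not_dvd Fact.out).1 hcop.symm, hnorm⟩
  have hmem : ∀ x, x ∈ P ↔ ∀ S, IsSyl p S G → R ≤ normalizer (S : Set X) → x ∈ S := by
    intro x
    rw [hP, mem_iInf]
    constructor
    · intro h S hS hRS
      obtain ⟨T, rfl⟩ := hS.exists_sylow_map
      exact h ⟨T, fun a ha => map_conj_eq_iff.2 (hRS ha)⟩
    · rintro h ⟨T, hT⟩
      exact h _ (isSyl_map_subtype T) fun a ha => map_conj_eq_iff.1 (hT a ha)
  obtain ⟨S₀, hS₀, hRS₀⟩ := hA.cop.exists_isSyl p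
  have hPS : P ≤ S₀ := fun x hx => (hmem x).1 hx S₀ hS₀ hRS₀
  have hn : ∀ g, g ∈ normalizer (G : Set X) → g ∈ normalizer (R : Set X) →
      g ∈ normalizer (P : Set X) := by
    intro g h1 h2
    refine mem_normalizer_of_conj_mem fun x hx => (hmem _).2 fun S hS hRS => ?_
    have := (hmem x).1 hx _ (hS.conj_of_mem_normalizer (inv_mem h1)) (by
      rw [← map_conj_normalizer, ← map_conj_eq_iff.2 (inv_mem h2)]
      exact map_mono hRS)
    simpa [mem_map_conj] using mem_map_conj.1 this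
  have hI : Inv p G R P := ⟨hPS.trans hS₀.le, hS₀.isPGroup.to_le hPS,
    fun g hg => hn g (hnorm hg) (le_normalizer hg),
    fun g hg => hn g (le_normalizer hg.1) (centralizer_le_normalizer _ hg.2)⟩
  have hFO : FstarOf G = OpOf p G := by rw [FstarOf, hF]; rfl
  have hO : OpOf p G ≤ P := fun x hx => (hmem x).2 fun S hS _ => OpOf_le_of_isSyl hS hx
  have hC := inf_centralizer_OpOf_le_of_FstarOf (hFO ▸ OpOf_isPGroup (p := p) G)
  have key := zj hp hA hI hO ((commutator_mono hC le_rfl).trans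
    (commutator_le_of_le_normalizer_left (le_normalizer_OpOf hnorm)))
  have hP1 : P ≠ ⊥ := fun h => FstarOf_ne_bot hG (le_bot_iff.1 (hFO ▸ h ▸ hO))
  haveI : Nontrivial P := (nontrivial_iff_ne_bot P).2 hP1
  refine ⟨kInfUpper P, characteristic_iff_map_eq.2 fun φ =>
    (isCharPFunctor_kInfUpper (p := p)).2 P P hI.hP φ,
    (isCharPFunctor_kInfUpper (p := p)).1 P hI.hP inferInstance, ?_⟩
  rw [map_kInfUpper_subtype]
  exact key

end Cfsg.Agent.S1930
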