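import Cfsg.Statements.S1931
import Cfsg.Agent.Lib.Flav.Push

set_option autoImplicit false
open Cfsg

namespace Cfsg.Agent.S1931

open Subgroup Cfsg.Agent.Lib.Core Cfsg.Agent.Lib.Glaub Cfsg.Agent.Lib.Flav

theorem aux {X : Type*} [Group X] [Finite X] {p : ℕ} [Fact p.Prime] (H R : Subgroup X) :
    R ≤ centralizer ((((pResidual p ↥(generalizedFittingSubgroup H)).map
      (generalizedFittingSubgroup H).subtype).map H.subtype : Subgroup X) : Set X) ↔
    ∀ x ∈ FstarOf H, (orderOf x).Coprime p → x ∈ centralizer (R : Set X) := by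
  rw [le_centralizer_iff, map_le_iff_le_comap,
    Cfsg.Agent.Lib.Transfer.map_subtype_pResidual_eq_closure, closure_le]
  constructor
  · rintro h _ ⟨x, hx, rfl⟩ hc
    exact h ⟨hx, by rwa [← Subgroup.orderOf_coe]⟩
  · rintro h x ⟨hx, hc⟩
    exact h x (mem_map_of_mem _ hx) (by rwa [Subgroup.orderOf_coe])

/-- Inside a finite group let G be a subgroup and R a noncyclic abelian r-subgroup (r a prime) normalizing G, with the order of G prime to r, and let p > 3 be a prime. Suppose that for every nonidentity a ∈ R, R centralizes the subgroup O^p(F*(C_G(a))) generated by the p'-elements of the generalized Fitting subgroup of C_G(a). Then R centralizes O^p(F*(G)). -/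
theorem result {X : Type*} [Group X] [Finite X] (G R : Subgroup X) (r : ℕ) [Fact r.Prime] (hR : IsPGroup r ↥R) (hcop : (Nat.card ↥G).Coprime r) (hnorm : R ≤ Subgroup.normalizer (G : Set X)) (hab : IsMulCommutative ↥R) (hnc : ¬ IsCyclic ↥R) (p : ℕ) [Fact p.Prime] (hp : 3 < p) (hloc : ∀ a ∈ R, a ≠ 1 → R ≤ Subgroup.centralizer ((((Cfsg.pResidual p ↥(Cfsg.generalizedFittingSubgroup ↥(G ⊓ Subgroup.centralizer ({a} : Set X)))).map (Cfsg.generalizedFittingSubgroup ↥(G ⊓ Subgroup.centralizer ({a} : Set X))).subtype).map (G ⊓ Subgroup.centralizer ({a} : Set X)).subtype : Subgroup X) : Set X)) : R ≤ Subgroup.centralizer ((((Cfsg.pResidual p ↥(Cfsg.generalizedFittingSubgroup ↥G)).map (Cfsg.generalizedFittingSubgroup ↥G).subtype).map G.subtype : Subgroup X) : Set X) := by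
  have hA : Act r G R := ⟨hR, (Nat.Prime.coprime_iff_not_dvd Fact.out).1 hcop.symm, hnorm⟩
  refine (aux G R).2 ((ch_iff hA).1 (ch_of_local hp hA hab hnc fun b hb hb1 => ?_))
  refine (ch_iff (hA.mono inf_le_left le_rfl (le_normalizer_inf hnorm ?_))).2
    ((aux _ R).1 (hloc b hb hb1))
  refine le_trans (fun g hg => mem_centralizer_singleton_iff.2 ?_) le_normalizer
  exact (le_centralizer R hg b hb).symm

end Cfsg.Agent.S1931
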