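import Cfsg.Statements.S2006
import Cfsg.Agent.Lib.Glaub.HH

set_option autoImplicit false
universe u
open Cfsg

namespace Cfsg.Agent.S2006

section
open Subgroup Cfsg.Agent.Lib Cfsg.Agent.Lib.Core Cfsg.Agent.Lib.Glaub
theorem aux {G : Type u} [Group G] [Finite G] {p : ℕ} [Fact p.Prime]
    {W : ∀ (Q : Type u) [Group Q], Subgroup Q} (hW : IsCharPFunctor p W)
    (hloc : ∀ (K R : Subgroup G) [(R.subgroupOf K).Normal],
      𝐂(pCore p (K ⧸ R.subgroupOf K)) ≤ pCore p (K ⧸ R.subgroupOf K) →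
      ∀ T : Sylow p (K ⧸ R.subgroupOf K),
        ¬ (inducedFunctor W (T : Subgroup (K ⧸ R.subgroupOf K))).Normal →
        ∃ g ∈ (T : Subgroup (K ⧸ R.subgroupOf K)), g ∉ pCore p (K ⧸ R.subgroupOf K) ∧
          ∃ U V, IsChiefFactor U V ∧ U ≤ pCore p (K ⧸ R.subgroupOf K) ∧
            iterCommutator U (zpowers g) (p - 1) ≤ V ∧ ¬ ⁅U, zpowers g⁆ ≤ V) : NPC p W G :=
  npc_of_sections hW (Hyp := fun H _ => 𝐂(pCore p H) ≤ pCore p H → ∀ T : Sylow p H,
        ¬ (inducedFunctor W (T : Subgroup H)).Normal →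
        ∃ g ∈ (T : Subgroup H), g ∉ pCore p H ∧ ∃ U V, IsChiefFactor U V ∧ U ≤ pCore p H ∧
            iterCommutator U (zpowers g) (p - 1) ≤ V ∧ ¬ ⁅U, zpowers g⁆ ≤ V) hloc
    (fun H _ _ h h1 h2 S h3 h4 _ => by
      obtain ⟨g, -, -, U, V, a, b, c, d⟩ := h h1 S h4
      exact absurd ((pAb_of_isCoatom (isSyl_sylow S) h3 h2).commutator_le_of_chief a
        (pCore_isPGroup.to_le b) c) d)
end

/-- Let p be a prime, G a finite group with Sylow p-subgroup S, and W an isomorphism-invariant p-group functor (W assigns to every group Q a subgroup W(Q), nontrivial whenever Q is a nontrivial finite p-group, and every isomorphism from a finite p-group Q onto a group R carries W(Q) onto W(R)). Suppose N_G(W(S)) has a normal p-complement, and that whenever G* = K/R is a section of G with C_{G*}(O_p(G*)) ≤ O_p(G*) and S* is a Sylow p-subgroup of G* with W(S*) not normal in G*, there are an element g of S* outside O_p(G*) and a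 chief factor X/Y of G* with X ≤ O_p(G*) such that [X, g, …, g] ≤ Y with p − 1 entries g but [X, g] ≰ Y. Then G has a normal p-complement. -/
theorem result {G : Type u} [Group G] [Finite G] {p : ℕ} [Fact p.Prime] (W : ∀ (Q : Type u) [Group Q], Subgroup Q) (hW : Cfsg.IsCharPFunctor.{u} p W) (S : Sylow p G) (hN : Cfsg.HasNormalPComplement p ↥(Subgroup.normalizer ((Cfsg.inducedFunctor (G := G) W (S : Subgroup G) : Subgroup G) : Set G))) (hloc : ∀ (K R : Subgroup G) [hR : (R.subgroupOf K).Normal], Subgroup.centralizer ((Cfsg.pCore p (↥K ⧸ R.subgroupOf K) : Subgroup (↥K ⧸ R.subgroupOf K)) : Set (↥K ⧸ R.subgroupOf K)) ≤ Cfsg.pCore p (↥K ⧸ R.subgroupOf K) → ∀ T : Sylow p (↥K ⧸ R.subgroupOf K), ¬ (Cfsg.inducedFunctor (G := (↥K ⧸ R.subgroupOf K)) W ((T : Subgroup (↥K ⧸ R.subgroupOf K)))).Normal → ∃ g : (↥K ⧸ R.subgroupOf K), g ∈ (T : Subgroup (↥K ⧸ R.subgroupOf K)) ∧ g ∉ Cfsg.pCore p (↥K ⧸ R.subgroupOf K) ∧ ∃ U V : Subgroup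 (↥K ⧸ R.subgroupOf K), Cfsg.IsChiefFactor U V ∧ U ≤ Cfsg.pCore p (↥K ⧸ R.subgroupOf K) ∧ Cfsg.iterCommutator U (Subgroup.zpowers g) (p - 1) ≤ V ∧ ¬ ⁅U, Subgroup.zpowers g⁆ ≤ V) : Cfsg.HasNormalPComplement p G := by
  open Subgroup Cfsg.Agent.Lib Cfsg.Agent.Lib.Core Cfsg.Agent.Lib.Glaub in
  (
  exact aux hW hloc S (isSyl_sylow S) hN
  )

end Cfsg.Agent.S2006
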