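import Cfsg.Statements.S2652
import Cfsg.Agent.Lib.TCI.M3

set_option autoImplicit false
open Cfsg

namespace Cfsg.Agent.S2652

/-- Let T be a Sylow 2-subgroup of the Fischer group Fi₂₃ (the finitely presented group `Spor.Fi23`; T has order 2¹⁸). Then every elementary abelian subgroup of Fi₂₃ contained in T and normal in T has order at most 2¹¹, and there is exactly one such subgroup of order 2¹¹. -/
theorem result
    (T : Sylow 2 Cfsg.Spor.Fi23) :
    (∀ A : Subgroup Cfsg.Spor.Fi23, A ≤ T → (A.subgroupOf T).Normal → Cfsg.IsElementaryAbelian 2 A →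
        Nat.card A ≤ 2 ^ 11) ∧
    ∃! A : Subgroup Cfsg.Spor.Fi23, A ≤ T ∧ (A.subgroupOf T).Normal ∧ Cfsg.IsElementaryAbelian 2 A ∧
        Nat.card A = 2 ^ 11 := by
  obtain ⟨ψ, h1, h2, h3⟩ := TCI.sylow_model T
  have hV := TCI.VV_struct
  have hc : Nat.card (TCI.VV.comap ψ) = 2 ^ 11 := by
    rw [← Subgroup.card_map_of_injective h1, Subgroup.map_comap_eq_self (TCI.VV_le.trans h2), hV.1]
    norm_num
  have := TCI.finite_Fi23
  have key : ∀ A : Subgroup Cfsg.Spor.Fi23, A ≤ T → Cfsg.IsElementaryAbelian 2 A →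
      A ≤ TCI.VV.comap ψ ∨ Nat.card A ≤ 1024 := fun A hA he => by
    rw [← Subgroup.card_map_of_injective h1, ← Subgroup.map_le_iff_le_comap]
    refine TCI.elab_le (Subgroup.map_le_iff_le_comap.2 (h3 ▸ hA)) ?_ ?_
    · rintro _ ⟨a, ha, rfl⟩ _ ⟨b, hb, rfl⟩
      rw [← map_mul, ← map_mul]
      exact congrArg (fun x : A => ψ x) (he.1.is_comm.comm ⟨a, ha⟩ ⟨b, hb⟩)
    · rintro _ ⟨a, ha, rfl⟩
      rw [← map_mul, ← sq, he.2 a ha, map_one]
  refine ⟨fun A hA _ he => (key A hA he).elim (fun h => hc ▸ Subgroup.card_le_of_le h)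
    fun h => h.trans (by norm_num), TCI.VV.comap ψ, ⟨h3 ▸ Subgroup.comap_mono TCI.VV_le,
      ⟨fun n hn g => ?_⟩, ⟨⟨⟨fun a b => Subtype.ext (h1 ?_)⟩⟩, fun a ha => h1 ?_⟩, hc⟩,
    fun A ⟨hA, _, he, e⟩ => Subgroup.eq_of_le_of_card_ge
      ((key A hA he).resolve_right (by rw [e]; norm_num)) (by rw [hc, e])⟩
  · have hg : ψ g ∈ TCI.NN := h3.le g.2
    simpa [Subgroup.mem_subgroupOf] using TCI.VV_conj (inv_mem hg) hn
  · obtain ⟨x, -, hx⟩ := hV.2.1 _ a.2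
    obtain ⟨y, -, hy⟩ := hV.2.1 _ b.2
    rw [Subgroup.coe_mul, Subgroup.coe_mul, map_mul, map_mul, ← hx, ← hy, ← TCI.phE_xor,
      ← TCI.phE_xor, Nat.xor_comm]
  · obtain ⟨x, -, hx⟩ := hV.2.1 _ ha
    rw [sq, map_mul, map_one, ← hx, TCI.phE_sq]

end Cfsg.Agent.S2652
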