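import Cfsg.Statements.S4394
import Cfsg.Agent.Lib.Misc.Schmidt
import Cfsg.Agent.Lib.ZJ.SL2Free
import Cfsg.Agent.Lib.Core.PSolv
import Cfsg.Agent.Lib.Core.Generation
import Cfsg.Agent.Lib.Core.Bar
import Cfsg.Agent.Lib.Glaub.Dickson
import Cfsg.Agent.Lib.Glaub.RankTwo

set_option autoImplicit false
open Cfsg

namespace Cfsg.Agent.S4394

open Subgroup Cfsg.Agent.Lib.Core Cfsg.Agent.Lib.Schmidt Cfsg.Agent.Lib.Glaub Cfsg.Agent.Lib.ZJ
open Cfsg.Agent.Lib.Root (xu xl xu_add xl_add)
open Cfsg.Agent.Lib.PGroup (mulAut_eq_one_of_frattini map_subtype_frattini_le_iff)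
open scoped commutatorElement

universe u

section
variable {p q : ℕ} [hp : Fact p.Prime] {P : Type*} [Group P] [Finite P] {α : MulAut P}

theorem not_psolv_SL2 (h : 3 < p) : ¬ PSolv p (⊤ : Subgroup (SL2 p)) := by
  intro hs
  have h1 : OupOf p (⊤ : Subgroup (SL2 p)) = ⊤ := by
    refine eq_top_of_xu_xl (s := 1) (t := 1) one_ne_zero one_ne_zero
      (mem_OupOf (mem_top _) ⟨1, ?_⟩) (mem_OupOf (mem_top _) ⟨1, ?_⟩)
    · rw [pow_one, xu_pow, ZMod.natCast_self, zero_mul]; simpa using xu_add (0 : ZMod p) 0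
    · have : ∀ n : ℕ, (xl 1 : SL2 p) ^ n = xl (n : ZMod p) := fun n => by
        induction n with
        | zero => simpa using (by simpa using xl_add (0 : ZMod p) 0 : xl (0 : ZMod p) = 1).symm
        | succ n ih => rw [pow_succ, ih, ← xl_add]; simp
      rw [pow_one, this, ZMod.natCast_self]; simpa using xl_add (0 : ZMod p) 0
  have ha : (2 : ZMod p) ≠ 0 := by
    intro h0
    have : ((2 : ℕ) : ZMod p) = 0 := by exact_mod_cast h0
    rw [ZMod.natCast_eq_zero_iff] at this
    have := Nat.le_of_dvd (by norm_num) this; omega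
  have hb : (2 : ZMod p) ^ 2 ≠ 1 := by
    intro h0
    have : ((3 : ℕ) : ZMod p) = 0 := by
      have : (2 : ZMod p) ^ 2 - 1 = 0 := sub_eq_zero.mpr h0
      push_cast
      rw [← this]; norm_num
    rw [ZMod.natCast_eq_zero_iff] at this
    have := Nat.le_of_dvd (by norm_num) this; omega
  have h2 := hs ⊤ le_rfl (Matrix.SL2.commutator_eq_top ha hb) h1
  haveI : Subsingleton (SL2 p) := ⟨fun a b => by
    rw [mem_bot.mp (h2.le (mem_top a)), mem_bot.mp (h2.le (mem_top b))]⟩
  exact not_isSolvable_SL2 (p := p) (by omega) (by omega) inferInstance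

variable {G : Type*} [Group G] [Finite G]

theorem le_pCore_of_forall (hC : 𝐂(pCore p G) ≤ pCore p G) {T : Subgroup G} [T.Normal]
    (h : ∀ x ∈ T, (orderOf x).Coprime p → x ∈ 𝐂(pCore p G)) : T ≤ pCore p G := by
  obtain ⟨S, hS⟩ := exists_isSyl p T
  exact le_pCore ((isPGroup_sup_of_le_normalizer hS.isPGroup pCore_isPGroup
    le_normalizer_of_normal).to_le ((le_sup_of_forall_coprime hS fun x hx hc => hC (h x hx hc)).trans
      (sup_comm _ _).le))

theorem comm_le (h : MinAct p q α) {Q : Subgroup G} (e : Q ≃* P) : ⁅Q, Q⁆ ≤ 𝐂(Q) :=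
  commutator_le.mpr fun x hx y hy => mem_centralizer_iff.mpr fun g hg => by
    have := mem_center_iff.mp (h.comm_mem (e ⟨x, hx⟩) (e ⟨y, hy⟩)) (e ⟨g, hg⟩)
    rw [← map_commutatorElement, ← map_mul, ← map_mul, e.injective.eq_iff] at this
    exact congrArg Subtype.val this

theorem pow_mem (h : MinAct p q α) {Q : Subgroup G} (e : Q ≃* P) {x : G} (hx : x ∈ Q) :
    x ^ p ∈ 𝐂(Q) := mem_centralizer_iff.mpr fun g hg => by
  have := mem_center_iff.mp (h.pow_mem (e ⟨x, hx⟩)) (e ⟨g, hg⟩)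
  rw [← map_pow, ← map_mul, ← map_mul, e.injective.eq_iff] at this
  exact congrArg Subtype.val this

theorem comm_le_of_index (h : MinAct p q α) (hp3 : p ≤ 3) {Q R N : Subgroup G} (e : Q ≃* P)
    (hZ : Q ⊓ 𝐂(Q) ≤ R) (hR : R.relIndex Q = p) (h1 : ⁅R, R⁆ ≤ N) (h2 : ∀ x ∈ R, x ^ p ∈ N) :
    ⁅Q, Q⁆ ≤ N := by
  let f : P →* G := Q.subtype.comp e.symm.toMonoidHom
  refine commutator_le.mpr fun x hx y hy => ?_
  have := h.comm_mem_of_index hp3 (R := R.comap f) (N := N.comap f) (fun c hc => hZ ⟨(e.symm c).2,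
    mem_centralizer_iff.mpr fun g hg => by
      have := congrArg f (mem_center_iff.mp hc (e ⟨g, hg⟩))
      simpa [f] using this⟩) (by
      rw [← hR, relIndex, ← index_comap_of_surjective (f := e.symm.toMonoidHom) _ e.symm.surjective]; rfl)
    (fun a ha b hb => by
      rw [mem_comap, map_commutatorElement]; exact h1 (commutator_mem_commutator ha hb))
    (fun a ha => by rw [mem_comap, map_pow]; exact h2 _ ha) (e ⟨x, hx⟩) (e ⟨y, hy⟩)
  simpa [f, mem_comap, map_commutatorElement] using this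

/-- conjugate subgroups are isomorphic -/
noncomputable def conjE {Q : Subgroup G} (e : Q ≃* P) (g : G) : cj(g, Q) ≃* P :=
  (Q.equivMapOfInjective (MulAut.conj g).toMonoidHom (MulAut.conj g).injective).symm.trans e

theorem le_centralizer_OppOf {A : Subgroup G} (hs : PSolv p (⊤ : Subgroup G)) (hO : pCore p G = ⊥)
    (hA : IsSyl p A ⊤) (h : A ≤ 𝐂(pPrimeCore p G)) : A = ⊥ := by
  have hS := hA.inf_normal le_top (self_le_normalizer_OppPOf (p := p) ⊤)
  have h1 := hS.sup_OppOf
  have h2 : OppPOf p (⊤ : Subgroup G) ≤ 𝐍(A ⊓ OppPOf p ⊤) := by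
    rw [← h1, OppOf_top]
    refine sup_le (by rw [← OppOf_top, h1]; exact le_normalizer) ?_
    rw [← OppOf_top, h1, OppOf_top]
    exact le_normalizer_of_le_centralizer (le_centralizer_iff.mp (inf_le_left.trans h))
  have h3 := (hS.eq_OpOf_of_le_normalizer h2).le.trans
    (OpOf_mono_of_normal le_top (self_le_normalizer_OppPOf ⊤))
  rw [OpOf_top, hO, le_bot_iff] at h3
  have h4 := inf_centralizer_le_OppPOf hs.LOf_eq_bot hS
  rw [← h3, eq_comm, inf_eq_left]
  refine le_trans (le_inf le_top ?_) h4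
  rw [h3]; exact le_centralizer_iff.mp bot_le

theorem le_pCore_small (h : MinAct p q α) (hp3 : p ≤ 3) (G : Type u) [Group G] [Finite G] :
    PSolv p (⊤ : Subgroup G) → 𝐂(pCore p G) ≤ pCore p G → ∀ Q : Subgroup G, IsSyl p Q ⊤ →
      Nonempty (Q ≃* P) → Q ≤ pCore p G := by
  refine card_induction (P := fun G _ _ => PSolv p (⊤ : Subgroup G) → 𝐂(pCore p G) ≤ pCore p G →
    ∀ Q : Subgroup G, IsSyl p Q ⊤ → Nonempty (Q ≃* P) → Q ≤ pCore p G) (fun G _ _ IH => ?_) G
  rintro hs hC Q hQ ⟨e⟩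
  by_contra hne
  set R := pCore p G with hR
  have hRQ : ∀ {Q}, IsSyl p Q ⊤ → R ≤ Q := fun hQ => OpOf_top.ge.trans (OpOf_le_of_isSyl hQ)
  have hZ : ∀ {Q}, IsSyl p Q ⊤ → 𝐂(Q) ≤ R := fun hQ => (centralizer_le_centralizer (hRQ hQ)).trans hC
  have hTI : ∀ g, g ∉ 𝐍(Q) → Q ⊓ cj(g, Q) ≤ R := by
    intro g hg
    have hQ1 : IsSyl p cj(g, Q) ⊤ := hQ.conj_of_mem_normalizer (le_normalizer_of_normal (mem_top g))
    set D := Q ⊓ cj(g, Q)
    have hRD : R ≤ D := le_inf (hRQ hQ) (hRQ hQ1)
    have n1 : Q ≤ 𝐍(D) := le_normalizer_iff_commutator_le_right.mpr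
      ((commutator_mono le_rfl inf_le_left).trans (((comm_le h e).trans (hZ hQ)).trans hRD))
    have n2 : cj(g, Q) ≤ 𝐍(D) := le_normalizer_iff_commutator_le_right.mpr
      ((commutator_mono le_rfl inf_le_right).trans (((comm_le h (conjE e g)).trans (hZ hQ1)).trans hRD))
    by_cases hN : 𝐍(D) = ⊤
    · haveI := normal_of_le_normalizer_top hN.ge
      exact le_pCore (hQ.isPGroup.to_le inf_le_left)
    exfalso
    have a1 : R ≤ OpOf p 𝐍(D) :=
      le_OpOf ((hRQ hQ).trans n1) le_normalizer_of_normal pCore_isPGroup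
    have := IH 𝐍(D) (card_lt_of_ne_top hN) (psolv_top_iff.mpr (hs.mono le_top)) (by
      rw [← OpOf_subgroupOf, ← subgroupOf_centralizer_eq (OpOf_le _)]
      exact comap_mono (((centralizer_le_centralizer a1).trans hC).trans a1)) (Q.subgroupOf 𝐍(D))
      (by simpa using (hQ.mono n1 le_top).subgroupOf le_rfl) ⟨(subgroupOfEquivOfLe n1).trans e⟩
    rw [← OpOf_subgroupOf, subgroupOf_le_subgroupOf_iff n1] at this
    exact hg (map_conj_eq_iff.mp (hQ.eq_of_le hQ1.isPGroup
      (this.trans (OpOf_le_of_isSyl (hQ1.mono n2 le_top))) le_top))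
  let π := QuotientGroup.mk' R
  have hπ := QuotientGroup.mk'_surjective R
  have hA : IsSyl p (Q.map π) ⊤ := by simpa [map_top_of_surjective π hπ] using hQ.map π
  have hA1 : Q.map π ≠ ⊥ := by rwa [Ne, Subgroup.map_eq_bot_iff, QuotientGroup.ker_mk']
  have hAe : IsElementaryAbelian p (Q.map π) := by
    refine ⟨le_centralizer_iff_isMulCommutative.mp
      (commutator_le_iff_map_le_centralizer.mp ((comm_le h e).trans (hZ hQ))), ?_⟩
    rintro _ ⟨x, hx, rfl⟩
    rw [← map_pow]; exact (QuotientGroup.eq_one_iff _).mpr (hZ hQ (pow_mem h e hx))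
  have hAc : IsCyclic (Q.map π) := by
    by_contra hnc
    refine hA1 (le_centralizer_OppOf (hs.quotient R) pCore_quotient hA ?_)
    refine le_centralizer_of_inf_eq_bot le_normalizer_of_normal (le_of_centralizers hAe.1 hnc
      le_normalizer_of_normal (coprime_card_of_isPGroup hA.isPGroup pPrimeCore_not_dvd) ?_)
      (inf_eq_bot_of_isPGroup_of_not_dvd hA.isPGroup pPrimeCore_not_dvd)
    rintro _ ⟨x, hx, rfl⟩ hx1 c ⟨-, hc⟩
    obtain ⟨g, rfl⟩ := hπ c
    refine Subgroup.le_normalizer_map π (mem_map_of_mem π ?_)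
    by_contra hg
    refine hx1 ((QuotientGroup.eq_one_iff _).mpr (hTI g hg ⟨hx, mem_map_conj.mpr ?_⟩))
    have : x⁻¹ * (g⁻¹ * x * g) ∈ R := by
      rw [← QuotientGroup.eq_one_iff]
      change π _ = 1
      have hc' : π g * π x = π x * π g := mem_centralizer_singleton_iff.mp hc
      rw [map_mul, map_mul, map_mul, map_inv, map_inv, mul_assoc, ← hc']
      group
    exact (mul_mem_cancel_left (inv_mem hx)).mp (hRQ hQ this)
  have hidx : R.relIndex Q = p := by
    have a1 := card_le_of_isCyclic_of_isElementaryAbelian hAe hAc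
    have a2 := Nat.le_of_dvd Nat.card_pos (dvd_card_of_isPGroup_of_ne_bot hA.isPGroup hA1)
    rw [← QuotientGroup.ker_mk' R, relIndex_ker]; exact le_antisymm a1 a2
  obtain ⟨f1, f2⟩ := (map_subtype_frattini_le_iff (H := R) pCore_isPGroup).mp le_rfl
  have f3 := comm_le_of_index h hp3 e (inf_le_right.trans (hZ hQ)) hidx f1 f2
  haveI := normal_map_subtype_of_characteristic (H := R) (frattini R)
  set Φ := (frattini R).map R.subtype
  have f4 := commutator_le_iff_map_le_centralizer.mp ((commutator_mono le_rfl (hRQ hQ)).trans f3)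
  refine hne ((map_le_iff_le_comap.mp f4).trans (le_pCore_of_forall hC fun x hx hc => ?_))
  have f5 : ⁅zpowers x, R⁆ ≤ Φ := commutator_le_iff_map_le_centralizer.mpr
    (map_le_iff_le_comap.mpr (zpowers_le.mpr hx))
  have f6 := mulAut_eq_one_of_frattini (G := R) pCore_isPGroup (a := MulAut.conjNormal x)
    (Nat.Coprime.coprime_dvd_left (orderOf_map_dvd _ x) hc) fun y => by
      have := f5 (commutator_mem_commutator (mem_zpowers x) y.2)
      have := Normal.conj_mem inferInstance _ this (y : G)⁻¹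
      rw [← subgroupOf_map_subtype_self (frattini R), mem_subgroupOf]
      convert this using 1
      simp [commutatorElement_def, mul_assoc]
  refine mem_centralizer_iff.mpr fun y hy => ?_
  have := congrArg (fun f : MulAut R => ((f ⟨y, hy⟩ : R) : G)) f6
  simp only [MulAut.conjNormal_apply, MulAut.one_apply] at this
  rw [mul_inv_eq_iff_eq_mul] at this; exact this.symm

theorem le_pCore_all (h : MinAct p q α) (hs : PSolv p (⊤ : Subgroup G))
    (hC : 𝐂(pCore p G) ≤ pCore p G) {Q : Subgroup G} (hQ : IsSyl p Q ⊤) (e : Q ≃* P) :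
    Q ≤ pCore p G := by
  by_cases hp3 : p ≤ 3
  · exact le_pCore_small h hp3 G hs hC Q hQ ⟨e⟩
  have hst := nStable_of_pStable (pStable_of_sl2Free (G := G) (p := p) (by omega) (by
    rintro ⟨K, f, hf⟩
    exact not_psolv_SL2 (by omega) ((psolv_top_iff.mpr (hs.mono le_top)).map_top f hf)))
  intro g hg
  have hRQ : pCore p G ≤ Q := OpOf_top (p := p) (G := G) ▸ OpOf_le_of_isSyl hQ
  obtain ⟨T, hT, h1, h2⟩ := hst _ inferInstance pCore_isPGroup g
    (commutator_eq_bot_iff_le_centralizer.mpr (((commutator_mono hRQ (zpowers_le.mpr hg)).trans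
      (comm_le h e)).trans (centralizer_le_centralizer (zpowers_le.mpr hg))))
  exact le_pCore_of_forall hC h2 h1

theorem le_comap (h : MinAct p q α) (hs : PSolv p (⊤ : Subgroup G)) {N : Subgroup G} [N.Normal]
    (hN : N = pPrimeCore p G) {Q : Subgroup G} (hQ : IsSyl p Q ⊤) (e : Q ≃* P) :
    Q ≤ (pCore p (G ⧸ N)).comap (QuotientGroup.mk' N) := by
  subst hN
  have hπ := QuotientGroup.mk'_surjective (pPrimeCore p G)
  refine map_le_iff_le_comap.mp (le_pCore_all h (hs.quotient _)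
    ((hs.quotient _).centralizer_pCore_le pPrimeCore_quotient)
    (by simpa [map_top_of_surjective _ hπ] using hQ.map (QuotientGroup.mk' (pPrimeCore p G)))
    ((MulEquiv.ofBijective ((QuotientGroup.mk' _).subgroupMap Q) ⟨?_,
      MonoidHom.subgroupMap_surjective _ _⟩).symm.trans e))
  rw [injective_iff_map_eq_one]
  intro x hx
  have : (x : G) ∈ Q ⊓ pPrimeCore p G := ⟨x.2, (QuotientGroup.eq_one_iff _).mp (congrArg Subtype.val hx)⟩
  rw [inf_eq_bot_of_isPGroup_of_not_dvd hQ.isPGroup pPrimeCore_not_dvd, mem_bot] at this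
  exact Subtype.ext this
end

/-- Let X be a finite minimal non-nilpotent group (not nilpotent, every proper subgroup nilpotent) with a nontrivial normal Sylow p-subgroup P. If G is a finite p-solvable group whose Sylow p-subgroups are isomorphic to P, then G has p-length at most 1. -/
theorem result {G X : Type*} [Group G] [Finite G] [Group X] [Finite X] (p : ℕ) [Fact p.Prime]
    (hX : Cfsg.IsMinimalNonNilpotent X) (P : Sylow p X) (hPn : (P : Subgroup X).Normal) (hP1 : (P : Subgroup X) ≠ ⊥)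
    (hG : Cfsg.IsPSolvable p G) (Q : Sylow p G) (hQ : Nonempty (↥(Q : Subgroup G) ≃* ↥(P : Subgroup X))) : Cfsg.PLengthLE p 1 G := by
  obtain ⟨q, α, h⟩ := exists_minAct hX P hP1
  obtain ⟨e⟩ := hQ
  have h1 : (upperPSeries p G 1).1 = pPrimeCore p G := by
    change (pPrimeCore p (G ⧸ (⊥ : Subgroup G))).comap (QuotientGroup.mk' _) = _
    rw [pPrimeCore_eq_piCore, pPrimeCore_eq_piCore]
    exact comap_piCore _ (QuotientGroup.mk'_surjective _) (by rw [QuotientGroup.ker_mk']; exact isPi_bot)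
  have h2 : (Q : Subgroup G) ≤ (upperPSeries p G 2).1 :=
    le_comap h (psolv_of_isPSolvable hG) h1 (isSyl_sylow Q) e
  change (pPrimeCore p (G ⧸ (upperPSeries p G 2).1)).comap (QuotientGroup.mk' _) = ⊤
  have h3 : pPrimeCore p (G ⧸ (upperPSeries p G 2).1) = ⊤ := eq_top_iff.mpr (le_pPrimeCore (by
    rw [card_top, ← index_eq_card, ← relIndex_top_right]
    exact (isSyl_sylow Q).not_dvd_relIndex h2))
  rw [h3, comap_top]

end Cfsg.Agent.S4394
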