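import Cfsg.Statements.S4418
import Cfsg.Agent.FT.Cons.Meta3
import Cfsg.Agent.Lib.PGroup.Metacyclic

set_option autoImplicit false
open Cfsg

namespace Cfsg.Agent.S4418

/-- Let G be a finite group whose Sylow 2-subgroup S is metacyclic via a cyclic normal subgroup N of S with S/N cyclic of order greater than 2. Then G is soluble. -/
theorem result {G : Type*} [Group G] [Finite G] (S : Sylow 2 G) (N : Subgroup ↥(S : Subgroup G)) [hN : N.Normal] (hNc : IsCyclic N) (hQc : IsCyclic (↥(S : Subgroup G) ⧸ N)) (hQ : 2 < Nat.card (↥(S : Subgroup G) ⧸ N)) : Group.IsSolvable G := by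
  obtain ⟨a, rfl⟩ := Lib.PGroup.exists_zpowers_eq_of_isCyclic N
  obtain ⟨s, hs⟩ := IsCyclic.exists_generator (α := ↥(S : Subgroup G) ⧸ Subgroup.zpowers a)
  obtain ⟨s, rfl⟩ := QuotientGroup.mk_surjective s
  have e : ∀ x : (S : Subgroup G), Subgroup.zpowers (x : G) = (Subgroup.zpowers x).map (S : Subgroup G).subtype :=
    fun x => (MonoidHom.map_zpowers (S : Subgroup G).subtype x).symm
  refine FT.Cons.solvable_of_mcyc G S a s ⟨Lib.Core.isSyl_sylow S, e a ▸ FT.nrm_map_subtype _, ?_, fun h => ?_⟩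
  · rw [e, e, ← Subgroup.map_sup, show Subgroup.zpowers a ⊔ Subgroup.zpowers s = ⊤ from eq_top_iff.mpr fun x _ => ?_,
      ← MonoidHom.range_eq_map, Subgroup.range_subtype]
    obtain ⟨n, hn⟩ := hs x
    have := QuotientGroup.eq.mp (show ((s ^ n : (S : Subgroup G)) : ↥(S : Subgroup G) ⧸ Subgroup.zpowers a) = x from hn)
    simpa using mul_mem (Subgroup.mem_sup_right (Subgroup.zpow_mem_zpowers s n)) (Subgroup.mem_sup_left this)
  · rw [e] at h
    obtain ⟨y, hy, h⟩ := h
    have h2 : (s : ↥(S : Subgroup G) ⧸ Subgroup.zpowers a) ^ 2 = 1 :=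
      (QuotientGroup.eq_one_iff (s ^ 2)).mpr ((show y = s ^ 2 from Subtype.ext h) ▸ hy)
    rw [← orderOf_eq_card_of_forall_mem_zpowers hs] at hQ
    exact hQ.not_ge (orderOf_le_of_pow_eq_one two_pos h2)

end Cfsg.Agent.S4418
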