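import Cfsg.Statements.S4419
import Cfsg.Agent.Lib.Misc.MaxPNil
import Cfsg.Agent.Lib.PGroup.Metacyclic

set_option autoImplicit false
open Cfsg

namespace Cfsg.Agent.S4419

open Subgroup Cfsg.Agent.Lib Cfsg.Agent.Lib.Core Cfsg.Agent.Lib.Glaub
open scoped Pointwise commutatorElement

theorem centralizes {G : Type*} [Group G] [Finite G] {p q : ℕ} [hp : Fact p.Prime]
    [hq : Fact q.Prime] (hqp : q ≠ p) (hq2 : ¬ q ∣ p ^ 2 - 1) {Q : Subgroup G} (hQ : IsPGroup p Q)
    {u y : G} (huy : zpowers u ⊔ zpowers y = Q) {g : G} (hg : g ∈ 𝐍(Q)) {k : ℕ}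
    (hk : g ^ q ^ k = 1) : g ∈ 𝐂(Q) := by
  set F := (frattini Q).map Q.subtype with hF
  have hN : 𝐍(Q) ≤ 𝐍(F) := normalizer_le_normalizer_map_subtype_of_characteristic _
  have hFQ : F ≤ Q := map_subtype_le _
  haveI : (F.subgroupOf 𝐍(Q)).Normal :=
    (normal_subgroupOf_iff_le_normalizer (hFQ.trans le_normalizer)).mpr hN
  let π := QuotientGroup.mk' (F.subgroupOf 𝐍(Q))
  have hu : u ∈ Q := huy ▸ mem_sup_left (mem_zpowers u)
  have hy : y ∈ Q := huy ▸ mem_sup_right (mem_zpowers y)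
  let u' : 𝐍(Q) := ⟨u, le_normalizer hu⟩
  let y' : 𝐍(Q) := ⟨y, le_normalizer hy⟩
  have h1 : zpowers u' ⊔ zpowers y' = Q.subgroupOf 𝐍(Q) := by
    apply map_injective 𝐍(Q).subtype_injective
    rw [Subgroup.map_sup, MonoidHom.map_zpowers, MonoidHom.map_zpowers,
      map_subgroupOf_eq_of_le le_normalizer]
    exact huy
  have h2 : ∀ x : 𝐍(Q), (x : G) ∈ Q → Nat.card (zpowers (π x)) ∣ p := fun x hx => by
    rw [Nat.card_zpowers, orderOf_dvd_iff_pow_eq_one, ← map_pow]
    exact (QuotientGroup.eq_one_iff _).mpr (PGroup.pow_mem_map_subtype_frattini hQ hx)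
  have h3 : Nat.card ((Q.subgroupOf 𝐍(Q)).map π) ∣ p ^ 2 := by
    rw [← h1, Subgroup.map_sup, MonoidHom.map_zpowers, MonoidHom.map_zpowers, pow_two]
    refine (card_sup_dvd (le_normalizer_of_le_centralizer (zpowers_le.mpr ?_))).trans
      (mul_dvd_mul (h2 _ hu) (h2 _ hy))
    rw [Core.centralizer_zpowers, mem_centralizer_singleton_iff,
      ← commutatorElement_eq_one_iff_mul_comm, ← map_commutatorElement]
    exact (QuotientGroup.eq_one_iff _).mpr
      (PGroup.commutator_le_map_subtype_frattini hQ (commutator_mem_commutator hu hy))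
  obtain ⟨n, hn, h4⟩ := (Nat.dvd_prime_pow hp.out).mp h3
  let g' : 𝐍(Q) := ⟨g, hg⟩
  have h5 : zpowers (π g') ≤ 𝐂((Q.subgroupOf 𝐍(Q)).map π) := by
    by_contra hc
    haveI : ((Q.subgroupOf 𝐍(Q)).map π).Normal :=
      Normal.map normal_in_normalizer _ (QuotientGroup.mk'_surjective _)
    obtain ⟨j, j1, j2, j3⟩ := Transfer.exists_dvd_pow_sub_one hqp h4
      (isPGroup_zpowers (k := k) (by
        rw [← map_pow, show g' ^ q ^ k = 1 from Subtype.ext hk, map_one]))
      le_normalizer_of_normal hc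
    refine hq2 (j3.trans ?_)
    have : j = 1 ∨ j = 2 := by omega
    rcases this with rfl | rfl
    · rw [pow_one]
      exact Dvd.intro_left (p + 1) (by rw [← Nat.sq_sub_sq])
    · exact dvd_rfl
  have h6 := PGroup.mulAut_eq_one_of_frattini hQ (a := Q.normalizerMonoidHom g') (by
    refine Nat.Coprime.coprime_dvd_left (orderOf_map_dvd _ _) ?_
    refine Nat.Coprime.coprime_dvd_left (orderOf_dvd_of_pow_eq_one (n := q ^ k) (Subtype.ext hk)) ?_
    exact ((Nat.coprime_primes hq.out hp.out).mpr hqp).pow_left k) (fun x => by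
      have h7 := h5 (mem_zpowers _) (π ⟨x, le_normalizer x.2⟩) (mem_map_of_mem π x.2)
      rw [← commutatorElement_eq_one_iff_mul_comm, ← map_commutatorElement] at h7
      have h8 := (QuotientGroup.eq_one_iff (N := F.subgroupOf 𝐍(Q)) _).mp h7
      obtain ⟨z, hz, e⟩ : ⁅(x : G), g⁆ ∈ F := h8
      have : x⁻¹ * Q.normalizerMonoidHom g' x = x⁻¹ * z⁻¹ * x := by
        apply Subtype.ext
        change (x : G)⁻¹ * (g * x * g⁻¹) = (x : G)⁻¹ * (Q.subtype z)⁻¹ * x
        rw [e, commutatorElement_def]; group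
      rw [this]
      exact Normal.conj_mem' inferInstance _ (inv_mem hz) x)
  intro x hx
  have : g * x * g⁻¹ = x := congrArg (fun e : MulAut Q => (e ⟨x, hx⟩ : G)) h6
  exact (mul_inv_eq_iff_eq_mul.mp this).symm

/-- Let p be a prime and G a finite group whose Sylow p-subgroups are metacyclic (a cyclic normal subgroup with cyclic quotient). Then G has a normal p-complement if and only if the order of G/O_{p′,p}(G) is coprime to p² − 1. -/
theorem result {G : Type*} [Group G] [Finite G] (p : ℕ) [Fact p.Prime] (S : Sylow p G) (hS : Cfsg.IsMetacyclic ↥(S : Subgroup G)) : Cfsg.HasNormalPComplement p G ↔ Nat.Coprime (Nat.card (G ⧸ Cfsg.pPrimePCore p G)) (p ^ 2 - 1) := by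
  have hs := QuotientGroup.mk'_surjective (pPrimeCore p G)
  have hi : Nat.card (G ⧸ pPrimePCore p G) = (pCore p (G ⧸ pPrimeCore p G)).index :=
    index_comap_of_surjective _ hs
  rw [hi]
  constructor
  · intro h
    obtain ⟨k, hk⟩ := MaxPNil.index_pPrimeCore_of_hnpc h
    have : pCore p (G ⧸ pPrimeCore p G) = ⊤ :=
      eq_top_iff.mpr (le_pCore ((IsPGroup.of_card hk).to_subgroup ⊤))
    rw [this, index_top]
    exact Nat.coprime_one_left _
  intro h
  refine Transfer.hasNormalPComplement_of_quotient pPrimeCore_not_dvd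
    (Transfer.hasNormalPComplement_of_frobenius_prime fun Q hQ q hq hqp g hg ⟨k, hk⟩ => ?_)
  haveI := Fact.mk hq
  by_cases hg1 : g = 1
  · rw [hg1]; exact one_mem _
  have hq2 : ¬ q ∣ p ^ 2 - 1 := fun hd => by
    have h1 : q ∣ Nat.card (G ⧸ pPrimeCore p G) := by
      refine (dvd_card_of_isPGroup_of_ne_bot (isPGroup_zpowers hk) (by simpa using hg1)).trans
        (card_subgroup_dvd_card _)
    rw [← (pCore p (G ⧸ pPrimeCore p G)).card_mul_index] at h1
    exact hq.one_lt.ne' (Nat.eq_one_of_dvd_coprimes h ((hq.dvd_mul.mp h1).resolve_left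
      (not_dvd_card_of_isPGroup pCore_isPGroup hqp)) hd)
  have hS' := (isSyl_sylow S).map (QuotientGroup.mk' (pPrimeCore p G))
  rw [map_top_of_surjective _ hs] at hS'
  obtain ⟨c, -, hc⟩ := hS'.exists_conj_le hQ le_top
  obtain ⟨a, b, hn, hab⟩ := PGroup.isMetacyclic_iff.mp hS
  let f := (MulAut.conj c⁻¹).toMonoidHom.comp
    ((QuotientGroup.mk' (pPrimeCore p G)).comp (S : Subgroup G).subtype)
  obtain ⟨u, y, -, huy⟩ := PGroup.exists_gens_of_metacyclic hab (Q.comap f)
  refine centralizes hqp hq2 hQ (u := f u) (y := f y) ?_ hg hk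
  rw [← MonoidHom.map_zpowers, ← MonoidHom.map_zpowers, ← Subgroup.map_sup, huy, map_comap_eq_self]
  intro x hx
  obtain ⟨s, hs, e⟩ := hc (conj_mem_map_conj.mpr hx)
  exact ⟨⟨s, hs⟩, by simp [f, ← QuotientGroup.mk'_apply, e, mul_assoc]⟩

end Cfsg.Agent.S4419
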